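import Cfsg.Agent.Lib.Helper24.CommSL
import Cfsg.Agent.Lib.Helper24.ChevAddData

set_option autoImplicit false

namespace Cfsg.Agent.Lib.Helper24

open Cfsg.Lie Matrix

/-- A tree of reflections reaching all roots of type E8 from the root `0`. -/
def cfTreeE8 : List (ℕ × ℕ × ℕ) := [(1, 0, 7), (2, 1, 6), (3, 2, 5), (4, 3, 4), (5, 4, 3), (7, 5, 1), (6, 5, 2), (8, 7, 2), (14, 6, 0), (15, 8, 0), (9, 8, 3), (16, 15, 3), (10, 9, 4), (21, 16, 2), (17, 16, 4), (11, 10, 5), (22, 21, 4), (18, 17, 5), (12, 11, 6), (26, 22, 3), (23, 22, 5), (19, 18, 6), (13, 12, 7), (36, 26, 1), (27, 26, 5), (24, 23, 6), (20, 19, 7), (37, 36, 5), (30, 27, 4), (28, 27, 6), (25, 24, 7), (40, 37, 4), (38, 37, 6), (31, 30, 6), (29, 28, 7), (46, 40, 3), (41, 40, 6), (39, 38, 7), (33, 31, 5), (32, 31, 7), (56, 46, 2), (47, 46, 6), (43, 41, 5), (42, 41, 7), (34, 33, 7), (78, 56, 0), (57, 56, 6), (49, 47, 5), (48, 47, 7), (44, 43, 7), (35, 34, 6), (79, 78, 6), (59, 57, 5), (58, 57,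 7), (52, 49, 4), (50, 49, 7), (45, 44, 6), (81, 79, 5), (80, 79, 7), (62, 59, 4), (60, 59, 7), (53, 52, 7), (51, 50, 6), (84, 81, 4), (82, 81, 7), (66, 62, 3), (63, 62, 7), (61, 60, 6), (54, 53, 6), (88, 84, 3), (85, 84, 7), (83, 82, 6), (71, 66, 1), (67, 66, 7), (64, 63, 6), (55, 54, 5), (99, 88, 1), (93, 88, 2), (89, 88, 7), (86, 85, 6), (72, 71, 7), (68, 67, 6), (65, 64, 5), (105, 99, 2), (100, 99, 7), (94, 93, 7), (90, 89, 6), (87, 86, 5), (73, 72, 6), (69, 68, 5), (110, 105, 3), (106, 105, 7), (101, 100, 6), (95, 94, 6), (91, 90, 5), (74, 73, 5), (70, 69, 4), (114, 110, 4), (111, 110, 7), (107, 106, 6), (102, 101, 5), (96, 95, 5), (92, 91, 4), (75, 74, 4), (117, 114, 5), (115, 114, 7), (112, 111, 6), (108, 107, 5), (103, 102, 4), (97, 96, 4), (76, 75, 3), (119, 117, 6), (118, 117, 7), (116, 115, 6), (113, 112, 5), (109, 108, 4), (104, 103, 3), (98, 97, 3), (77, 76, 2), (120, 119, 7), (121, 118, 6), (123, 116, 5), (126, 113, 4), (130, 109, 3),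 (135, 104, 2), (141, 98, 1), (162, 77, 0), (122, 120, 6), (124, 121, 5), (127, 123, 4), (131, 126, 3), (142, 130, 1), (136, 130, 2), (163, 135, 0), (125, 122, 5), (128, 124, 4), (132, 127, 3), (143, 131, 1), (137, 131, 2), (147, 142, 2), (164, 136, 0), (129, 125, 4), (133, 128, 3), (144, 132, 1), (138, 132, 2), (148, 143, 2), (165, 137, 0), (169, 147, 0), (134, 129, 3), (145, 133, 1), (139, 133, 2), (149, 144, 2), (166, 138, 0), (170, 148, 0), (152, 148, 3), (146, 134, 1), (140, 134, 2), (150, 145, 2), (167, 139, 0), (171, 149, 0), (153, 149, 3), (174, 170, 3), (151, 146, 2), (168, 140, 0), (172, 150, 0), (154, 150, 3), (175, 171, 3), (156, 153, 4), (184, 174, 2), (173, 151, 0), (155, 151, 3), (176, 172, 3), (157, 154, 4), (185, 175, 2), (178, 175, 4), (177, 173, 3), (158, 155, 4), (186, 176, 2), (179, 176, 4), (159, 157, 5), (188, 185, 4), (187, 177, 2), (180, 177, 4), (160, 158, 5), (189, 186, 4), (181, 179, 5), (194, 188, 3), (190, 187, 4), (182,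 180, 5), (161, 160, 6), (195, 189, 3), (191, 189, 5), (204, 194, 1), (196, 190, 3), (192, 190, 5), (183, 182, 6), (205, 195, 1), (197, 195, 5), (206, 196, 1), (198, 196, 5), (193, 192, 6), (207, 205, 5), (200, 197, 4), (208, 206, 5), (201, 198, 4), (199, 198, 6), (210, 207, 4), (211, 208, 4), (209, 208, 6), (202, 201, 6), (214, 210, 3), (215, 211, 3), (212, 211, 6), (203, 202, 5), (219, 214, 2), (220, 215, 2), (216, 215, 6), (213, 212, 5), (226, 219, 0), (227, 220, 0), (221, 220, 6), (217, 216, 5), (228, 227, 6), (222, 221, 5), (218, 217, 4), (229, 228, 5), (223, 222, 4), (230, 229, 4), (224, 223, 3), (231, 230, 3), (225, 224, 1), (233, 231, 1), (232, 231, 2), (234, 233, 2), (235, 234, 3), (236, 235, 4), (237, 236, 5), (238, 237, 6), (239, 238, 7)]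

set_option maxRecDepth 1000000 in
theorem slChk_E8 : slChk chevE8 = true := by decide +kernel

set_option maxRecDepth 1000000 in
theorem treeChk_E8 : treeChk chevE8 cfTreeE8 [0] = true := by decide +kernel

set_option maxRecDepth 1000000 in
theorem coverChk_E8 : coverChk chevE8 (0 :: cfTreeE8.map Prod.fst) = true := by decide +kernel

end Cfsg.Agent.Lib.Helper24
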