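import Cfsg.Agent.Lib.Helper24.ChevCard

set_option autoImplicit false

namespace Cfsg.Agent.Lib.Helper24

open Cfsg.Lie

/-- Smith normal form of the Cartan matrix of type `G2`. -/
def smith_G2 : SmithData chevG2.rank (cartanMat chevG2) where
  P := lmat _ [[0, -1], [1, 2]]
  P' := lmat _ [[2, 1], [-1, 0]]
  Q := lmat _ [[1, 2], [0, 1]]
  Q' := lmat _ [[1, -2], [0, 1]]
  e := fun k => ([1, 1] : List ℕ).getD k.val 1
  hPP' := by decide +kernel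
  hP'P := by decide +kernel
  hQQ' := by decide +kernel
  hQ'Q := by decide +kernel
  hsnf := by decide +kernel

set_option maxRecDepth 1000000 in
theorem hdiv_G2 : ∀ s < chevG2.nroots, ∀ k : Fin chevG2.rank,
    ((smith_G2.e k : ℕ) : ℤ) ∣ ∑ i, smith_G2.P k i * chevG2.cartan i.val s := by decide +kernel

/-- Smith normal form of the Cartan matrix of type `B2`. -/
def smith_B2 : SmithData chevB2.rank (cartanMat chevB2) where
  P := lmat _ [[0, -1], [1, 2]]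
  P' := lmat _ [[2, 1], [-1, 0]]
  Q := lmat _ [[1, 2], [0, 1]]
  Q' := lmat _ [[1, -2], [0, 1]]
  e := fun k => ([1, 2] : List ℕ).getD k.val 1
  hPP' := by decide +kernel
  hP'P := by decide +kernel
  hQQ' := by decide +kernel
  hQ'Q := by decide +kernel
  hsnf := by decide +kernel

set_option maxRecDepth 1000000 in
theorem hdiv_B2 : ∀ s < chevB2.nroots, ∀ k : Fin chevB2.rank,
    ((smith_B2.e k : ℕ) : ℤ) ∣ ∑ i, smith_B2.P k i * chevB2.cartan i.val s := by decide +kernel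

/-- Smith normal form of the Cartan matrix of type `D4`. -/
def smith_D4 : SmithData chevD4.rank (cartanMat chevD4) where
  P := lmat _ [[-1, 0, 0, 0], [-2, -1, 0, 0], [-3, -2, -1, 0], [2, 2, 1, 1]]
  P' := lmat _ [[-1, 0, 0, 0], [2, -1, 0, 0], [-1, 2, -1, 0], [-1, 0, 1, 1]]
  Q := lmat _ [[0, 0, 0, 1], [1, 0, 0, 2], [0, 1, -1, 1], [0, 0, 1, 2]]
  Q' := lmat _ [[-2, 1, 0, 0], [-3, 0, 1, 1], [-2, 0, 0, 1], [1, 0, 0, 0]]
  e := fun k => ([1, 1, 2, 2] : List ℕ).getD k.val 1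
  hPP' := by decide +kernel
  hP'P := by decide +kernel
  hQQ' := by decide +kernel
  hQ'Q := by decide +kernel
  hsnf := by decide +kernel

set_option maxRecDepth 1000000 in
theorem hdiv_D4 : ∀ s < chevD4.nroots, ∀ k : Fin chevD4.rank,
    ((smith_D4.e k : ℕ) : ℤ) ∣ ∑ i, smith_D4.P k i * chevD4.cartan i.val s := by decide +kernel

/-- Smith normal form of the Cartan matrix of type `F4`. -/
def smith_F4 : SmithData chevF4.rank (cartanMat chevF4) where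
  P := lmat _ [[-1, 0, 0, 0], [1, 0, -1, 0], [-2, -1, 0, 0], [-2, -2, -2, -1]]
  P' := lmat _ [[-1, 0, 0, 0], [2, 0, -1, 0], [-1, -1, 0, 0], [0, 2, 2, -1]]
  Q := lmat _ [[0, 0, 1, -2], [1, 0, 2, -4], [0, 0, 2, -3], [0, 1, 2, -2]]
  Q' := lmat _ [[-2, 1, 0, 0], [2, 0, -2, 1], [-3, 0, 2, 0], [-2, 0, 1, 0]]
  e := fun k => ([1, 1, 1, 1] : List ℕ).getD k.val 1
  hPP' := by decide +kernel
  hP'P := by decide +kernel
  hQQ' := by decide +kernel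
  hQ'Q := by decide +kernel
  hsnf := by decide +kernel

set_option maxRecDepth 1000000 in
theorem hdiv_F4 : ∀ s < chevF4.nroots, ∀ k : Fin chevF4.rank,
    ((smith_F4.e k : ℕ) : ℤ) ∣ ∑ i, smith_F4.P k i * chevF4.cartan i.val s := by decide +kernel

/-- Smith normal form of the Cartan matrix of type `E6`. -/
def smith_E6 : SmithData chevE6.rank (cartanMat chevE6) where
  P := lmat _ [[-1, 0, 0, 0, 0, 0], [0, -1, 0, 0, 0, 0], [1, -2, 0, -1, 0, 0], [2, -3, 0, -2, -1, 0], [-2, 1, -1, 0, 0, 0], [-5, 0, -4, -3, -2, -1]]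
  P' := lmat _ [[-1, 0, 0, 0, 0, 0], [0, -1, 0, 0, 0, 0], [2, -1, 0, 0, -1, 0], [-1, 2, -1, 0, 0, 0], [0, -1, 2, -1, 0, 0], [0, 0, -1, 2, 4, -1]]
  Q := lmat _ [[0, 0, 0, 0, 1, -2], [0, 0, 0, 0, 2, -3], [1, 0, 0, 0, 2, -4], [0, 1, 0, 0, 4, -6], [0, 0, 1, 0, 4, -5], [0, 0, 0, 1, 4, -4]]
  Q' := lmat _ [[-2, 0, 1, 0, 0, 0], [0, -2, 0, 1, 0, 0], [2, -3, 0, 0, 1, 0], [4, -4, 0, 0, 0, 1], [-3, 2, 0, 0, 0, 0], [-2, 1, 0, 0, 0, 0]]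
  e := fun k => ([1, 1, 1, 1, 1, 3] : List ℕ).getD k.val 1
  hPP' := by decide +kernel
  hP'P := by decide +kernel
  hQQ' := by decide +kernel
  hQ'Q := by decide +kernel
  hsnf := by decide +kernel

set_option maxRecDepth 1000000 in
theorem hdiv_E6 : ∀ s < chevE6.nroots, ∀ k : Fin chevE6.rank,
    ((smith_E6.e k : ℕ) : ℤ) ∣ ∑ i, smith_E6.P k i * chevE6.cartan i.val s := by decide +kernel

/-- Smith normal form of the Cartan matrix of type `E7`. -/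
def smith_E7 : SmithData chevE7.rank (cartanMat chevE7) where
  P := lmat _ [[-1, 0, 0, 0, 0, 0, 0], [0, -1, 0, 0, 0, 0, 0], [1, -2, 0, -1, 0, 0, 0], [2, -3, 0, -2, -1, 0, 0], [3, -4, 0, -3, -2, -1, 0], [-2, 1, -1, 0, 0, 0, 0], [-4, -1, -4, -4, -3, -2, -1]]
  P' := lmat _ [[-1, 0, 0, 0, 0, 0, 0], [0, -1, 0, 0, 0, 0, 0], [2, -1, 0, 0, 0, -1, 0], [-1, 2, -1, 0, 0, 0, 0], [0, -1, 2, -1, 0, 0, 0], [0, 0, -1, 2, -1, 0, 0], [0, 0, 0, -1, 2, 4, -1]]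
  Q := lmat _ [[0, 0, 0, 0, 0, 1, -2], [0, 0, 0, 0, 0, 2, -3], [1, 0, 0, 0, 0, 2, -4], [0, 1, 0, 0, 0, 4, -6], [0, 0, 1, 0, 0, 4, -5], [0, 0, 0, 1, 0, 4, -4], [0, 0, 0, 0, 1, 4, -3]]
  Q' := lmat _ [[-2, 0, 1, 0, 0, 0, 0], [0, -2, 0, 1, 0, 0, 0], [2, -3, 0, 0, 1, 0, 0], [4, -4, 0, 0, 0, 1, 0], [6, -5, 0, 0, 0, 0, 1], [-3, 2, 0, 0, 0, 0, 0], [-2, 1, 0, 0, 0, 0, 0]]
  e := fun k => ([1, 1, 1, 1, 1, 1, 2] : List ℕ).getD k.val 1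
  hPP' := by decide +kernel
  hP'P := by decide +kernel
  hQQ' := by decide +kernel
  hQ'Q := by decide +kernel
  hsnf := by decide +kernel

set_option maxRecDepth 1000000 in
theorem hdiv_E7 : ∀ s < chevE7.nroots, ∀ k : Fin chevE7.rank,
    ((smith_E7.e k : ℕ) : ℤ) ∣ ∑ i, smith_E7.P k i * chevE7.cartan i.val s := by decide +kernel

/-- Smith normal form of the Cartan matrix of type `E8`. -/
def smith_E8 : SmithData chevE8.rank (cartanMat chevE8) where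
  P := lmat _ [[-1, 0, 0, 0, 0, 0, 0, 0], [0, -1, 0, 0, 0, 0, 0, 0], [1, -2, 0, -1, 0, 0, 0, 0], [2, -3, 0, -2, -1, 0, 0, 0], [3, -4, 0, -3, -2, -1, 0, 0], [4, -5, 0, -4, -3, -2, -1, 0], [-2, 1, -1, 0, 0, 0, 0, 0], [-3, -2, -4, -5, -4, -3, -2, -1]]
  P' := lmat _ [[-1, 0, 0, 0, 0, 0, 0, 0], [0, -1, 0, 0, 0, 0, 0, 0], [2, -1, 0, 0, 0, 0, -1, 0], [-1, 2, -1, 0, 0, 0, 0, 0], [0, -1, 2, -1, 0, 0, 0, 0], [0, 0, -1, 2, -1, 0, 0, 0], [0, 0, 0, -1, 2, -1, 0, 0], [0, 0, 0, 0, -1, 2, 4, -1]]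
  Q := lmat _ [[0, 0, 0, 0, 0, 0, 1, -2], [0, 0, 0, 0, 0, 0, 2, -3], [1, 0, 0, 0, 0, 0, 2, -4], [0, 1, 0, 0, 0, 0, 4, -6], [0, 0, 1, 0, 0, 0, 4, -5], [0, 0, 0, 1, 0, 0, 4, -4], [0, 0, 0, 0, 1, 0, 4, -3], [0, 0, 0, 0, 0, 1, 4, -2]]
  Q' := lmat _ [[-2, 0, 1, 0, 0, 0, 0, 0], [0, -2, 0, 1, 0, 0, 0, 0], [2, -3, 0, 0, 1, 0, 0, 0], [4, -4, 0, 0, 0, 1, 0, 0], [6, -5, 0, 0, 0, 0, 1, 0], [8, -6, 0, 0, 0, 0, 0, 1], [-3, 2, 0, 0, 0, 0, 0, 0], [-2, 1, 0, 0, 0, 0, 0, 0]]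
  e := fun k => ([1, 1, 1, 1, 1, 1, 1, 1] : List ℕ).getD k.val 1
  hPP' := by decide +kernel
  hP'P := by decide +kernel
  hQQ' := by decide +kernel
  hQ'Q := by decide +kernel
  hsnf := by decide +kernel

set_option maxRecDepth 1000000 in
theorem hdiv_E8 : ∀ s < chevE8.nroots, ∀ k : Fin chevE8.rank,
    ((smith_E8.e k : ℕ) : ℤ) ∣ ∑ i, smith_E8.P k i * chevE8.cartan i.val s := by decide +kernel

end Cfsg.Agent.Lib.Helper24
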