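import Cfsg.Agent.Lib.Helper24.CommAll
import Cfsg.Agent.Lib.Helper24.ChevGL
import Cfsg.Agent.Lib.Helper24.HDiagAll
import Cfsg.Agent.Lib.Helper24.GradeData

set_option autoImplicit false

namespace Cfsg.Agent.Lib.Helper24

open Cfsg.Lie Matrix
open scoped commutatorElement

set_option maxRecDepth 1000000 in
theorem G2_wit : ∀ r < chevG2.nroots, ∃ s < chevG2.nroots,
    W chevG2 s r = 1 ∨ W chevG2 s r = -1 := by decide +kernel

set_option maxRecDepth 1000000 in
theorem B2_wit_short : ∀ r ∈ [1, 2, 5, 6], ∃ s < chevB2.nroots,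
    W chevB2 s r = 1 ∨ W chevB2 s r = -1 := by decide +kernel

set_option maxRecDepth 1000000 in
theorem B2_wit_long : ∀ r ∈ [0, 3, 4, 7], ∃ s < chevB2.nroots,
    W chevB2 s r = 2 ∨ W chevB2 s r = -2 := by decide +kernel

theorem B2_comm_long : ∀ r ∈ [0, 3, 4, 7], ∃ (a b : ℕ) (k : ℤ), (k = 2 ∨ k = -2) ∧
    commChk1 chevB2 r a b k = true := by
  intro r hr
  simp only [List.mem_cons, List.not_mem_nil, or_false] at hr
  rcases hr with rfl | rfl | rfl | rfl
  · exact ⟨1, 2, 2, Or.inl rfl, commChk_B2_0⟩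
  · exact ⟨1, 5, -2, Or.inr rfl, commChk_B2_3⟩
  · exact ⟨2, 6, -2, Or.inr rfl, commChk_B2_4⟩
  · exact ⟨5, 6, 2, Or.inl rfl, commChk_B2_7⟩

variable {F : Type*} [Field F]

/-- The derived subgroup of the Chevalley group is everything as soon as it contains the root
elements. -/
theorem derived_eq_top (D : ChevalleyDatum)
    (h : ∀ (r : Fin D.nroots) (t : F), ∃ y ∈ commutator ↥(D.group F),
      ((y : GL D.Idx F) : Matrix D.Idx D.Idx F) = D.xMat F r t) :
    commutator ↥(D.group F) = ⊤ := by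
  rw [eq_top_iff]
  have hle : D.group F ≤ (commutator ↥(D.group F)).map (D.group F).subtype := by
    refine (Subgroup.closure_le _).2 ?_
    rintro g ⟨r, t, hg⟩
    obtain ⟨y, hy, hval⟩ := h r t
    refine ⟨y, hy, ?_⟩
    apply Units.ext
    rw [hg]
    exact hval
  intro x _
  obtain ⟨y, hy, hyx⟩ := hle x.2
  have : y = x := Subtype.ext hyx
  rw [← this]
  exact hy

theorem coe_commutatorElement (D : ChevalleyDatum) (A B : ↥(D.group F)) :
    (((⁅A, B⁆ : ↥(D.group F)) : GL D.Idx F) : Matrix D.Idx D.Idx F) =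
      (A.1 : Matrix D.Idx D.Idx F) * (B.1 : Matrix D.Idx D.Idx F) *
        ((A.1⁻¹ : GL D.Idx F) : Matrix D.Idx D.Idx F) *
        ((B.1⁻¹ : GL D.Idx F) : Matrix D.Idx D.Idx F) := by
  rw [commutatorElement_def, Subgroup.coe_mul, Subgroup.coe_mul, Subgroup.coe_mul,
    Subgroup.coe_inv, Subgroup.coe_inv, Units.val_mul, Units.val_mul, Units.val_mul]

/-- A root element that is a commutator of root elements lies in the derived subgroup. -/
theorem x_mem_derived_of_comm (D : ChevalleyDatum) (hD : D ∈ chevList) (r a b : ℕ) (k : ℤ)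
    (hk : (k : F) ≠ 0) (hchk : commChk1 D r a b k = true) (t : F) :
    ∃ y ∈ commutator ↥(D.group F), ((y : GL D.Idx F) : Matrix D.Idx D.Idx F) = D.x F r t := by
  refine ⟨⁅(⟨xGL D hD a 1, xGL_mem_group D hD a 1⟩ : ↥(D.group F)),
    (⟨xGL D hD b ((k : F)⁻¹ * t), xGL_mem_group D hD b _⟩ : ↥(D.group F))⁆,
    Subgroup.commutator_mem_commutator (Subgroup.mem_top _) (Subgroup.mem_top _), ?_⟩
  have := comm_of_chk D (preChk_of_mem D hD) r a b k hchk ((k : F)⁻¹ * t)
  rw [← mul_assoc, mul_inv_cancel₀ hk, one_mul] at this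
  rw [← this, coe_commutatorElement]
  rfl

/-- A root element on which a torus element acts non-trivially lies in the derived subgroup. -/
theorem x_mem_derived_of_torus (D : ChevalleyDatum) (hD : D ∈ chevList) (r s : ℕ)
    (hr : r < D.nroots) (hs : s < D.nroots) (c : F) (hc : c ≠ 0) (hne : c ^ W D s r ≠ 1) (t : F) :
    ∃ y ∈ commutator ↥(D.group F), ((y : GL D.Idx F) : Matrix D.Idx D.Idx F) = D.x F r t := by
  obtain ⟨h, hh, hval⟩ := exists_mem_group_of_word D hD (D.hWord s c)
  have hval' : (h : Matrix D.Idx D.Idx F) = torus F D (fun u => c ^ W D s u) := by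
    rw [hval]
    exact hMat_eq_torus D hD s hs c hc
  have hinv : (h : Matrix D.Idx D.Idx F) * ((h⁻¹ : GL D.Idx F) : Matrix D.Idx D.Idx F) = 1 := by
    rw [← Units.val_mul, mul_inv_cancel, Units.val_one]
  have hne' : c ^ W D s r - 1 ≠ 0 := sub_ne_zero.2 hne
  refine ⟨⁅(⟨h, hh⟩ : ↥(D.group F)),
    (⟨xGL D hD r ((c ^ W D s r - 1)⁻¹ * t), xGL_mem_group D hD r _⟩ : ↥(D.group F))⁆,
    Subgroup.commutator_mem_commutator (Subgroup.mem_top _) (Subgroup.mem_top _), ?_⟩
  rw [coe_commutatorElement]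
  show (h : Matrix D.Idx D.Idx F) * D.x F r ((c ^ W D s r - 1)⁻¹ * t) *
    ((h⁻¹ : GL D.Idx F) : Matrix D.Idx D.Idx F) * D.x F r (-((c ^ W D s r - 1)⁻¹ * t)) = _
  have e1 := torusW_mul_x D hD s c hc r hr ((c ^ W D s r - 1)⁻¹ * t)
  rw [← hval'] at e1
  rw [e1, mul_assoc (D.x F r _), hinv, mul_one, x_add D hD r hr]
  congr 1
  field_simp
  ring

theorem sq_ne_one_of_two_eq_zero (h2 : (2 : F) = 0) (c : F) (hc1 : c ≠ 1) : c ^ 2 ≠ 1 := by
  intro h
  have h3 : (c - 1) ^ 2 = 0 := by
    have : (c - 1) ^ 2 = c ^ 2 - 2 * c + 1 := by ring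
    rw [this, h, h2]
    ring_nf
    linear_combination h2
  have h4 : c - 1 = 0 := by simpa using h3
  exact hc1 (sub_eq_zero.1 h4)

/-- The Chevalley groups of the seven types are perfect, except over fields with two elements in
the types `G₂` and `B₂`. -/
theorem group_perfect (D : ChevalleyDatum) (hD : D ∈ chevList)
    (h2 : D = chevG2 ∨ D = chevB2 → ∃ a : F, a ≠ 0 ∧ a ≠ 1) :
    commutator ↥(D.group F) = ⊤ := by
  apply derived_eq_top
  intro r t
  have hx := x_eq_xMat D r.val r.isLt t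
  have e2 : (⟨r.val, r.isLt⟩ : Fin D.nroots) = r := Fin.ext rfl
  rw [e2] at hx
  rw [← hx]
  obtain ⟨r, hr⟩ := r
  show ∃ y ∈ commutator ↥(D.group F), ((y : GL D.Idx F) : Matrix D.Idx D.Idx F) = D.x F r t
  have hD' := hD
  simp only [chevList, List.mem_cons, List.not_mem_nil, or_false] at hD'
  have hcomm : D ∈ [chevD4, chevF4, chevE6, chevE7, chevE8] →
      ∃ y ∈ commutator ↥(D.group F), ((y : GL D.Idx F) : Matrix D.Idx D.Idx F) = D.x F r t := by
    intro hD5
    obtain ⟨a, b, k, hk, hchk⟩ := exists_comm D hD5 r hr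
    refine x_mem_derived_of_comm D hD r a b k ?_ hchk t
    rcases hk with rfl | rfl <;> simp
  rcases hD' with rfl | rfl | rfl | rfl | rfl | rfl | rfl
  · obtain ⟨c, hc0, hc1⟩ := h2 (Or.inl rfl)
    obtain ⟨s, hs, hW⟩ := G2_wit r hr
    refine x_mem_derived_of_torus chevG2 hD r s hr hs c hc0 ?_ t
    rcases hW with hW | hW
    · rw [hW, zpow_one]
      exact hc1
    · rw [hW, _root_.zpow_neg_one]
      intro h
      exact hc1 (inv_eq_one.1 h)
  · obtain ⟨c, hc0, hc1⟩ := h2 (Or.inr rfl)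
    have hr8 : r < 8 := hr
    by_cases hshort : r ∈ [1, 2, 5, 6]
    · obtain ⟨s, hs, hW⟩ := B2_wit_short r hshort
      refine x_mem_derived_of_torus chevB2 hD r s hr hs c hc0 ?_ t
      rcases hW with hW | hW
      · rw [hW, zpow_one]
        exact hc1
      · rw [hW, _root_.zpow_neg_one]
        intro h
        exact hc1 (inv_eq_one.1 h)
    · have hlong : r ∈ [0, 3, 4, 7] := by
        simp only [List.mem_cons, List.not_mem_nil, or_false] at hshort ⊢
        omega
      by_cases h2F : (2 : F) = 0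
      · obtain ⟨s, hs, hW⟩ := B2_wit_long r hlong
        refine x_mem_derived_of_torus chevB2 hD r s hr hs c hc0 ?_ t
        have hsq := sq_ne_one_of_two_eq_zero h2F c hc1
        rcases hW with hW | hW
        · rw [hW]
          exact_mod_cast hsq
        · rw [hW]
          intro h
          apply hsq
          have h3 : c ^ (-2 : ℤ) = (c ^ 2)⁻¹ := by
            rw [_root_.zpow_neg]
            norm_cast
          rw [h3] at h
          exact inv_eq_one.1 h
      · obtain ⟨a, b, k, hk, hchk⟩ := B2_comm_long r hlong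
        refine x_mem_derived_of_comm chevB2 hD r a b k ?_ hchk t
        rcases hk with rfl | rfl
        · simpa using h2F
        · simpa using h2F
  · exact hcomm (by simp)
  · exact hcomm (by simp)
  · exact hcomm (by simp)
  · exact hcomm (by simp)
  · exact hcomm (by simp)

end Cfsg.Agent.Lib.Helper24
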