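import Cfsg.Agent.Lib.Helper24.CommChk
import Cfsg.Agent.Lib.Helper24.ChevAddData

set_option autoImplicit false

namespace Cfsg.Agent.Lib.Helper24

open Cfsg.Lie Matrix

/-- Witnesses `(a, b, k)` with `[x_a(1), x_b(t)] = x_r(k t)` for the roots `r` from `0` on. -/
def commW_D4 : List (ℕ × ℕ × ℤ) :=
  [(1, 9, 1), (0, 14, 1), (0, 15, -1), (0, 16, -1), (0, 17, 1), (1, 17, 1), (0, 19, -1),
   (0, 20, 1), (0, 21, 1), (0, 22, -1), (1, 20, -1), (1, 21, -1), (2, 22, -1), (3, 22, -1),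
   (1, 23, -1), (2, 23, 1), (3, 23, 1), (4, 23, -1), (6, 22, 1), (6, 23, 1), (7, 23, -1),
   (8, 23, -1), (9, 23, 1), (14, 22, 1)]

set_option maxRecDepth 1000000 in
theorem commChk_D4 : commChkList chevD4 commW_D4 0 = true := by decide +kernel

theorem commW_D4_length : commW_D4.length = 24 := by decide +kernel

/-- Witnesses `(a, b, k)` with `[x_a(1), x_b(t)] = x_r(k t)` for the roots `r` from `0` on. -/
def commW_F4 : List (ℕ × ℕ × ℤ) :=
  [(1, 23, 1), (0, 24, 1), (0, 26, 1), (7, 14, 1), (0, 31, -1), (0, 32, 1), (1, 32, 1),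
   (3, 33, 1), (3, 34, 1), (3, 35, -1), (3, 36, 1), (3, 37, -1), (3, 38, 1), (3, 39, -1),
   (3, 40, -1), (0, 42, -1), (0, 43, 1), (1, 43, 1), (7, 37, -1), (7, 38, 1), (7, 39, -1),
   (0, 45, -1), (1, 45, -1), (0, 46, -1), (1, 47, -1), (2, 46, -1), (2, 47, -1), (8, 40, -1),
   (9, 40, 1), (10, 40, -1), (4, 46, 1), (4, 47, 1), (5, 47, -1), (7, 44, -1), (8, 44, -1),
   (9, 44, 1), (10, 44, -1), (11, 44, 1), (12, 44, -1), (13, 44, 1), (14, 44, 1), (15, 46, 1),
   (15, 47, 1), (16, 47, -1), (33, 40, 1), (21, 47, 1), (23, 47, 1), (24, 46, 1)]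

set_option maxRecDepth 1000000 in
theorem commChk_F4 : commChkList chevF4 commW_F4 0 = true := by decide +kernel

theorem commW_F4_length : commW_F4.length = 48 := by decide +kernel

/-- Witnesses `(a, b, k)` with `[x_a(1), x_b(t)] = x_r(k t)` for the roots `r` from `0` on. -/
def commW_E6 : List (ℕ × ℕ × ℤ) :=
  [(1, 25, 1), (0, 46, 1), (0, 47, -1), (0, 48, 1), (0, 49, -1), (0, 50, 1), (0, 51, -1),
   (0, 52, 1), (0, 53, 1), (0, 54, -1), (0, 55, 1), (1, 53, 1), (1, 54, -1), (1, 55, 1),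
   (2, 55, 1), (5, 55, 1), (0, 61, -1), (0, 62, 1), (0, 63, -1), (0, 64, -1), (0, 65, 1),
   (0, 66, -1), (0, 67, 1), (0, 68, -1), (0, 69, 1), (0, 70, -1), (1, 64, -1), (1, 65, 1),
   (1, 66, -1), (2, 66, -1), (1, 67, -1), (1, 68, 1), (1, 69, -1), (2, 67, 1), (2, 68, -1),
   (3, 67, -1), (4, 68, -1), (3, 69, -1), (4, 69, 1), (2, 70, -1), (3, 70, 1), (4, 70, -1),
   (5, 69, -1), (5, 70, -1), (6, 70, 1), (7, 70, -1), (1, 71, -1), (2, 71, 1), (3, 71, -1),
   (4, 71, 1), (5, 71, -1), (6, 71, 1), (7, 71, -1), (8, 71, -1), (9, 71, 1), (10, 71, -1),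
   (16, 66, 1), (16, 69, 1), (16, 70, 1), (17, 70, -1), (18, 70, 1), (16, 71, 1), (17, 71, -1),
   (18, 71, 1), (19, 71, 1), (20, 71, -1), (21, 71, 1), (22, 71, -1), (23, 71, 1), (24, 71, -1),
   (25, 71, 1), (46, 70, 1)]

set_option maxRecDepth 1000000 in
theorem commChk_E6 : commChkList chevE6 commW_E6 0 = true := by decide +kernel

theorem commW_E6_length : commW_E6.length = 72 := by decide +kernel

/-- Witnesses `(a, b, k)` with `[x_a(1), x_b(t)] = x_r(k t)` for the roots `r` from `0` on. -/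
def commW_E7 : List (ℕ × ℕ × ℤ) :=
  [(1, 32, 1), (0, 93, 1), (0, 94, -1), (0, 95, 1), (0, 96, -1), (0, 97, 1), (0, 98, -1),
   (0, 99, -1), (0, 100, 1), (0, 101, -1), (0, 102, 1), (0, 103, -1), (0, 104, 1), (0, 105, -1),
   (0, 106, -1), (0, 107, 1), (0, 108, -1), (0, 109, 1), (0, 110, -1), (0, 111, 1), (0, 112, 1),
   (0, 113, -1), (0, 114, 1), (0, 115, -1), (0, 116, 1), (0, 117, -1), (0, 118, 1), (0, 119, 1),
   (0, 120, -1), (0, 121, 1), (0, 122, -1), (0, 123, 1), (0, 124, -1), (1, 109, -1), (1, 110, 1),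
   (1, 111, -1), (1, 112, -1), (1, 113, 1), (1, 114, -1), (1, 115, 1), (1, 116, -1), (1, 117, 1),
   (1, 118, -1), (2, 115, 1), (2, 116, -1), (2, 117, 1), (2, 118, -1), (3, 118, -1),
   (1, 119, -1), (1, 120, 1), (1, 121, -1), (1, 122, 1), (1, 123, -1), (2, 119, 1), (2, 120, -1),
   (2, 121, 1), (2, 122, -1), (3, 119, -1), (3, 120, 1), (3, 121, -1), (4, 119, 1), (4, 120, -1),
   (5, 119, -1), (6, 120, -1), (5, 121, -1), (6, 121, 1), (4, 122, -1), (5, 122, 1),
   (6, 122, -1), (3, 123, -1), (4, 123, 1), (5, 123, -1), (6, 123, 1), (2, 124, -1), (3, 124, 1),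
   (4, 124, -1), (5, 124, 1), (6, 124, -1), (7, 122, -1), (7, 123, -1), (8, 123, 1),
   (9, 123, -1), (10, 123, 1), (7, 124, -1), (8, 124, 1), (9, 124, -1), (10, 124, 1),
   (11, 124, -1), (12, 124, 1), (13, 124, -1), (14, 124, -1), (15, 124, 1), (16, 124, -1),
   (1, 125, -1), (2, 125, 1), (3, 125, -1), (4, 125, 1), (5, 125, -1), (6, 125, 1), (7, 125, 1),
   (8, 125, -1), (9, 125, 1), (10, 125, -1), (11, 125, 1), (12, 125, -1), (13, 125, 1),
   (14, 125, 1), (15, 125, -1), (16, 125, 1), (17, 125, -1), (18, 125, 1), (19, 125, -1),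
   (20, 125, -1), (21, 125, 1), (22, 125, -1), (23, 125, 1), (24, 125, -1), (25, 125, 1),
   (26, 125, -1), (27, 125, -1), (28, 125, 1), (29, 125, -1), (30, 125, 1), (31, 125, -1),
   (32, 125, 1), (93, 124, 1)]

set_option maxRecDepth 1000000 in
theorem commChk_E7 : commChkList chevE7 commW_E7 0 = true := by decide +kernel

theorem commW_E7_length : commW_E7.length = 126 := by decide +kernel

set_option maxRecDepth 1000000 in
theorem commChk_B2_0 : commChk1 chevB2 0 1 2 (2) = true := by decide +kernel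

set_option maxRecDepth 1000000 in
theorem commChk_B2_3 : commChk1 chevB2 3 1 5 (-2) = true := by decide +kernel

set_option maxRecDepth 1000000 in
theorem commChk_B2_4 : commChk1 chevB2 4 2 6 (-2) = true := by decide +kernel

set_option maxRecDepth 1000000 in
theorem commChk_B2_7 : commChk1 chevB2 7 5 6 (2) = true := by decide +kernel


end Cfsg.Agent.Lib.Helper24
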