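import Cfsg.Agent.Lib.Helper24.CommChk
import Cfsg.Agent.Lib.Helper24.ChevAddData

set_option autoImplicit false

namespace Cfsg.Agent.Lib.Helper24

open Cfsg.Lie Matrix

/-- Witnesses `(a, b, k)` with `[x_a(1), x_b(t)] = x_r(k t)` for the roots `r` from `0` on. -/
def commW_E8a : List (ℕ × ℕ × ℤ) :=
  [(1, 119, 1), (0, 120, 1), (0, 122, 1), (0, 125, 1), (0, 129, 1), (0, 134, 1), (0, 140, 1),
   (0, 146, 1), (0, 151, -1), (0, 155, 1), (0, 158, -1), (0, 160, 1), (0, 161, -1), (1, 161, -1),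
   (0, 168, 1), (0, 173, -1), (0, 177, 1), (0, 180, -1), (0, 182, 1), (0, 183, -1), (1, 183, -1),
   (0, 187, -1), (0, 190, 1), (0, 192, -1), (0, 193, 1), (1, 193, 1), (0, 196, -1), (0, 198, 1),
   (0, 199, -1), (1, 199, -1), (0, 201, -1), (0, 202, 1), (1, 202, 1), (0, 203, -1),
   (1, 203, -1), (2, 203, -1), (0, 206, 1), (0, 208, -1), (0, 209, 1), (1, 209, 1), (0, 211, 1),
   (0, 212, -1), (1, 212, -1), (0, 213, 1), (1, 213, 1), (2, 213, 1), (0, 215, -1), (0, 216, 1),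
   (1, 216, 1), (0, 217, -1), (1, 217, -1), (2, 217, -1), (0, 218, 1), (1, 218, 1), (2, 218, 1),
   (3, 218, 1), (0, 220, 1), (0, 221, -1), (1, 221, -1), (0, 222, 1), (1, 222, 1), (2, 222, 1),
   (0, 223, -1), (1, 223, -1), (2, 223, -1), (3, 223, -1), (0, 224, 1), (1, 224, 1), (2, 224, 1),
   (3, 224, 1), (4, 224, 1), (0, 225, -1), (1, 225, -1), (2, 225, -1), (3, 225, -1),
   (4, 225, -1), (5, 225, -1), (6, 225, -1), (0, 227, 1), (0, 228, -1), (1, 228, -1),
   (0, 229, 1), (1, 229, 1), (2, 229, 1), (0, 230, -1), (1, 230, -1), (2, 230, -1), (3, 230, -1),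
   (0, 231, 1), (1, 231, 1), (2, 231, 1), (3, 231, 1), (4, 231, 1), (0, 232, -1), (1, 232, -1),
   (2, 232, -1), (3, 232, -1), (4, 232, -1), (5, 232, -1), (0, 233, -1), (1, 233, -1),
   (2, 233, -1), (3, 233, -1), (4, 233, -1), (5, 233, -1), (0, 234, -1), (1, 234, -1),
   (2, 234, -1), (3, 234, -1), (4, 234, -1), (0, 235, -1), (1, 235, -1), (2, 235, -1),
   (3, 235, -1), (0, 236, -1), (1, 236, -1), (2, 236, -1), (0, 237, -1), (1, 237, -1),
   (0, 238, -1)]

set_option maxRecDepth 1000000 in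
theorem commChk_E8a : commChkList chevE8 commW_E8a 0 = true := by decide +kernel

theorem commW_E8a_length : commW_E8a.length = 120 := by decide


end Cfsg.Agent.Lib.Helper24
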