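import Cfsg.Agent.Lib.Helper24.CommChk
import Cfsg.Agent.Lib.Helper24.ChevAddData

set_option autoImplicit false

namespace Cfsg.Agent.Lib.Helper24

open Cfsg.Lie Matrix

/-- Witnesses `(a, b, k)` with `[x_a(1), x_b(t)] = x_r(k t)` for the roots `r` from `120` on. -/
def commW_E8b : List (ℕ × ℕ × ℤ) :=
  [(1, 239, -1), (2, 238, -1), (2, 239, -1), (3, 237, -1), (3, 238, -1), (3, 239, -1),
   (4, 236, -1), (4, 237, -1), (4, 238, -1), (4, 239, -1), (5, 235, -1), (5, 236, -1),
   (5, 237, -1), (5, 238, -1), (5, 239, -1), (6, 234, -1), (6, 235, -1), (6, 236, -1),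
   (6, 237, -1), (6, 238, -1), (6, 239, -1), (7, 234, -1), (7, 235, -1), (7, 236, -1),
   (7, 237, -1), (7, 238, -1), (7, 239, -1), (8, 235, 1), (8, 236, 1), (8, 237, 1), (8, 238, 1),
   (8, 239, 1), (9, 236, -1), (9, 237, -1), (9, 238, -1), (9, 239, -1), (10, 237, 1),
   (10, 238, 1), (10, 239, 1), (11, 238, -1), (11, 239, -1), (12, 239, 1), (14, 233, -1),
   (14, 234, -1), (14, 235, -1), (14, 236, -1), (14, 237, -1), (14, 238, -1), (14, 239, -1),
   (15, 235, 1), (15, 236, 1), (15, 237, 1), (15, 238, 1), (15, 239, 1), (16, 236, -1),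
   (16, 237, -1), (16, 238, -1), (16, 239, -1), (17, 237, 1), (17, 238, 1), (17, 239, 1),
   (18, 238, -1), (18, 239, -1), (19, 239, 1), (21, 236, 1), (21, 237, 1), (21, 238, 1),
   (21, 239, 1), (22, 237, -1), (22, 238, -1), (22, 239, -1), (23, 238, 1), (23, 239, 1),
   (24, 239, -1), (26, 237, 1), (26, 238, 1), (26, 239, 1), (27, 238, -1), (27, 239, -1),
   (28, 239, 1), (30, 238, 1), (30, 239, 1), (31, 239, -1), (33, 239, 1), (36, 237, -1),
   (36, 238, -1), (36, 239, -1), (37, 238, 1), (37, 239, 1), (38, 239, -1), (40, 238, -1),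
   (40, 239, -1), (41, 239, 1), (43, 239, -1), (46, 238, 1), (46, 239, 1), (47, 239, -1),
   (49, 239, 1), (52, 239, -1), (56, 238, -1), (56, 239, -1), (57, 239, 1), (59, 239, -1),
   (62, 239, 1), (66, 239, -1), (71, 239, 1), (78, 238, -1), (78, 239, -1), (79, 239, 1),
   (81, 239, -1), (84, 239, 1), (88, 239, -1), (93, 239, 1), (99, 239, 1), (105, 239, 1),
   (110, 239, 1), (114, 239, 1), (117, 239, 1), (119, 239, 1), (120, 238, 1)]

set_option maxRecDepth 1000000 in
theorem commChk_E8b : commChkList chevE8 commW_E8b 120 = true := by decide +kernel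

theorem commW_E8b_length : commW_E8b.length = 120 := by decide


end Cfsg.Agent.Lib.Helper24
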