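import Cfsg.Agent.Lib.Helper24.EvalData
import Cfsg.Agent.Lib.Helper24.CommDataA
import Cfsg.Agent.Lib.Helper24.CommDataE8a
import Cfsg.Agent.Lib.Helper24.CommDataE8b

set_option autoImplicit false

namespace Cfsg.Agent.Lib.Helper24

open Cfsg.Lie Matrix

theorem exists_comm_of_list (D : ChevalleyDatum) (l : List (ℕ × ℕ × ℤ)) (r0 : ℕ)
    (h : commChkList D l r0 = true) (r : ℕ) (h1 : r0 ≤ r) (h2 : r < r0 + l.length) :
    ∃ (a b : ℕ) (k : ℤ), (k = 1 ∨ k = -1) ∧ commChk1 D r a b k = true := by
  have hlt : r - r0 < l.length := by omega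
  have := commChkList_sound D l r0 h (r - r0) l[r - r0] (List.getElem?_eq_getElem hlt)
  have e : r0 + (r - r0) = r := by omega
  rw [e] at this
  exact ⟨_, _, _, this.2, this.1⟩

/-- In the types `D₄`, `F₄`, `E₆`, `E₇`, `E₈` every root element is a commutator of root
elements. -/
theorem exists_comm (D : ChevalleyDatum)
    (hD : D ∈ [chevD4, chevF4, chevE6, chevE7, chevE8]) (r : ℕ) (hr : r < D.nroots) :
    ∃ (a b : ℕ) (k : ℤ), (k = 1 ∨ k = -1) ∧ commChk1 D r a b k = true := by
  simp only [List.mem_cons, List.not_mem_nil, or_false] at hD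
  rcases hD with rfl | rfl | rfl | rfl | rfl
  · exact exists_comm_of_list _ _ 0 commChk_D4 r (Nat.zero_le r)
      (by rw [commW_D4_length]; exact hr)
  · exact exists_comm_of_list _ _ 0 commChk_F4 r (Nat.zero_le r)
      (by rw [commW_F4_length]; exact hr)
  · exact exists_comm_of_list _ _ 0 commChk_E6 r (Nat.zero_le r)
      (by rw [commW_E6_length]; exact hr)
  · exact exists_comm_of_list _ _ 0 commChk_E7 r (Nat.zero_le r)
      (by rw [commW_E7_length]; exact hr)
  · have hr' : r < 240 := hr
    by_cases h1 : r < 120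
    · exact exists_comm_of_list _ _ 0 commChk_E8a r (Nat.zero_le r)
        (by rw [commW_E8a_length]; omega)
    · exact exists_comm_of_list _ _ 120 commChk_E8b r (by omega)
        (by rw [commW_E8b_length]; omega)

end Cfsg.Agent.Lib.Helper24
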