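import Mathlib

/-!
# Project EP (helper7, S5746): piece HINV (independent copy)

The stabiliser of `a` preserves the two orbits of `L` on the other points, when the number of
other points does not divide its order.
-/

set_option autoImplicit false

namespace Cfsg.Agent.Lib.Helper7.EP

/-- HINV: the stabiliser of `a` preserves the two orbits of `L` on the other points, when the
number of other points does not divide its order. -/
theorem EPHINV {W : Type*} [Group W] [Finite W] {n : ℕ} (π : W →* Equiv.Perm (Fin n)) (a : Fin n)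
    (c : Fin n → ℕ) (L : Subgroup W)
    (hL : L ≤ (MulAction.stabilizer (Equiv.Perm (Fin n)) a).comap π)
    (hc0 : ∀ i, c i = 0 ↔ i = a) (hc2 : ∀ i, c i ≤ 2)
    (hconn : ∀ i j, c i = c j → ∃ l ∈ L, π l i = j)
    (hcard : ¬ (n - 1) ∣ Nat.card ((MulAction.stabilizer (Equiv.Perm (Fin n)) a).comap π)) :
    ∀ h ∈ (MulAction.stabilizer (Equiv.Perm (Fin n)) a).comap π, ∀ i, c (π h i) = c i := by
  intro h hh i
  by_contra hne
  apply hcard
  set S : Subgroup W := (MulAction.stabilizer (Equiv.Perm (Fin n)) a).comap π with hS
  have hfix : ∀ s ∈ S, π s a = a := fun s hs => by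
    have h1 : π s ∈ MulAction.stabilizer (Equiv.Perm (Fin n)) a := hs
    exact MulAction.mem_stabilizer_iff.mp h1
  have hia : i ≠ a := by
    rintro rfl
    exact hne (by rw [hfix h hh])
  have hja : π h i ≠ a := by
    intro e
    apply hia
    have h1 : π h i = π h a := by rw [e, hfix h hh]
    exact (π h).injective h1
  have hci : c i ≠ 0 := fun e => hia ((hc0 i).1 e)
  have hcj : c (π h i) ≠ 0 := fun e => hja ((hc0 _).1 e)
  letI : MulAction S (Fin n) := MulAction.compHom (Fin n) (π.comp S.subtype)
  have hsm : ∀ (s : S) (k : Fin n), s • k = π (s : W) k := fun s k => rfl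
  have horb : MulAction.orbit S i = {k | k ≠ a} := by
    ext k
    constructor
    · rintro ⟨s, rfl⟩
      show s • i ≠ a
      rw [hsm]
      intro e
      apply hia
      have h1 : π (s : W) i = π (s : W) a := by rw [e, hfix s s.2]
      exact (π (s : W)).injective h1
    · intro hk
      have hk' : k ≠ a := hk
      have hck : c k ≠ 0 := fun e => hk' ((hc0 k).1 e)
      have h2k := hc2 k
      have h2i := hc2 i
      have h2j := hc2 (π h i)
      have h3 : c k = c i ∨ c k = c (π h i) := by omega
      rcases h3 with e | e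
      · obtain ⟨l, hl, hli⟩ := hconn i k e.symm
        refine ⟨⟨l, hL hl⟩, ?_⟩
        show (⟨l, hL hl⟩ : S) • i = k
        rw [hsm]; exact hli
      · obtain ⟨l, hl, hli⟩ := hconn (π h i) k e.symm
        refine ⟨⟨l * h, S.mul_mem (hL hl) hh⟩, ?_⟩
        show (⟨l * h, S.mul_mem (hL hl) hh⟩ : S) • i = k
        rw [hsm]
        show π (l * h) i = k
        rw [map_mul, Equiv.Perm.mul_apply]; exact hli
  have hcardorb : (MulAction.orbit S i).ncard = n - 1 := by
    rw [horb]
    have h1 : {k : Fin n | k ≠ a} = ({a} : Set (Fin n))ᶜ := by ext k; simp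
    rw [h1, Set.ncard_compl, Set.ncard_singleton, Nat.card_eq_fintype_card, Fintype.card_fin]
  rw [← hcardorb, ← MulAction.index_stabilizer]
  exact Subgroup.index_dvd_card _

end Cfsg.Agent.Lib.Helper7.EP
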