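import Cfsg.Agent.Lib.Helper24.TwGen

/-!
# Checked identities between words in root elements, in characteristic `p`

The checker of `Eval.lean` / `TwGen.lean` with the coefficients of the difference only required
to be divisible by `p`.
-/

set_option autoImplicit false

namespace Cfsg.Agent.Lib.Helper24

open Cfsg.Lie Matrix

noncomputable section

/-- All coefficients of the sparse vector are divisible by `p`. -/
def modV (p : ℕ) (v : SVec) : Bool :=
  List.rec true (fun x _ ih => decide (Int.emod x.2.1 (Int.ofNat p) = 0) && ih) v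

theorem modV_cons (p : ℕ) (x : ℕ × ℤ × Mono) (v : SVec) :
    modV p (x :: v) = (decide (Int.emod x.2.1 (Int.ofNat p) = 0) && modV p v) := rfl

/-- The two words agree modulo `p` on the basis vector `e_j`. -/
def colEqChkP (p : ℕ) (l : ℕ) (w₁ w₂ : List (RInfo × ℤ × Mono)) (j : ℕ) : Bool :=
  modV p (vsub (applyWord l w₁ (unitV j)) (applyWord l w₂ (unitV j)))

/-- The two words agree modulo `p` on all basis vectors. -/
def wordEqChkP (p : ℕ) (D : ChevalleyDatum) (w₁ w₂ : List (RInfo × ℤ × Mono)) : Bool :=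
  natAll (Nat.add D.rank D.nroots) (colEqChkP p D.rank w₁ w₂)

/-- The check that two words have the same matrix in characteristic `p`. -/
def wEqChkP (p : ℕ) (D : ChevalleyDatum) (l₁ l₂ : List (ℕ × ℤ × Mono)) : Bool :=
  ltAll D l₁ && (ltAll D l₂ && wordEqChkP p D (mkW D l₁) (mkW D l₂))

variable {F : Type*} [Field F]

theorem evalV_modV (p : ℕ) [CharP F p] (D : ChevalleyDatum) (c t : F) (v : SVec)
    (h : modV p v = true) : evalV D c t v = 0 := by
  induction v with
  | nil => rfl
  | cons x v ih =>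
    rw [modV_cons, Bool.and_eq_true, decide_eq_true_eq] at h
    rw [evalV_cons, ih h.2, add_zero]
    have h3 : ((p : ℕ) : ℤ) ∣ x.2.1 := Int.dvd_of_emod_eq_zero h.1
    have h4 : ((x.2.1 : ℤ) : F) = 0 := (CharP.intCast_eq_zero_iff F p _).2 h3
    rw [h4, zero_mul, zero_smul]

theorem colEqChkP_sound (p : ℕ) [CharP F p] (D : ChevalleyDatum) (c t : F) (hc : c ≠ 0)
    (w₁ w₂ : List (RInfo × ℤ × Mono))
    (hw₁ : ∀ x ∈ w₁, RValid D x.1) (hw₂ : ∀ x ∈ w₂, RValid D x.1) (j : ℕ)
    (h : colEqChkP p D.rank w₁ w₂ j = true) :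
    D.wordMat F (wordOf c t w₁) *ᵥ bvec F D j = D.wordMat F (wordOf c t w₂) *ᵥ bvec F D j := by
  unfold colEqChkP at h
  have h2 := evalV_modV p D c t _ h
  rw [evalV_vsub, evalV_applyWord D c t hc w₁ hw₁, evalV_applyWord D c t hc w₂ hw₂,
    evalV_unitV, sub_eq_zero] at h2
  exact h2

theorem wordEqChkP_sound (p : ℕ) [CharP F p] (D : ChevalleyDatum) (c t : F) (hc : c ≠ 0)
    (w₁ w₂ : List (RInfo × ℤ × Mono))
    (hw₁ : ∀ x ∈ w₁, RValid D x.1) (hw₂ : ∀ x ∈ w₂, RValid D x.1)
    (h : wordEqChkP p D w₁ w₂ = true) :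
    D.wordMat F (wordOf c t w₁) = D.wordMat F (wordOf c t w₂) := by
  unfold wordEqChkP at h
  rw [natAll_iff] at h
  apply mat_ext
  · intro i hi
    have := colEqChkP_sound p D c t hc w₁ w₂ hw₁ hw₂ i
      (h i (by show i < D.rank + D.nroots; omega))
    rwa [bvec_lt D i hi] at this
  · intro s hs
    have := colEqChkP_sound p D c t hc w₁ w₂ hw₁ hw₂ (D.rank + s)
      (h (D.rank + s) (by show D.rank + s < D.rank + D.nroots; omega))
    rwa [bvec_add D s] at this

/-- Soundness of the characteristic `p` check. -/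
theorem wEqP_sound (p : ℕ) [CharP F p] (D : ChevalleyDatum) (h : preChk D = true)
    (l₁ l₂ : List (ℕ × ℤ × Mono)) (hchk : wEqChkP p D l₁ l₂ = true) (c t : F) (hc : c ≠ 0) :
    D.wordMat F (wEval c t l₁) = D.wordMat F (wEval c t l₂) := by
  unfold wEqChkP at hchk
  simp only [Bool.and_eq_true] at hchk
  obtain ⟨h1, h2, h3⟩ := hchk
  have key := wordEqChkP_sound p D c t hc (mkW D l₁) (mkW D l₂) (mkW_valid D h l₁ h1)
    (mkW_valid D h l₂ h2) h3
  rwa [wordOf_mkW, wordOf_mkW] at key

end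

end Cfsg.Agent.Lib.Helper24
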