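import Cfsg.Agent.Lib.Helper24.UProdChk
import Cfsg.Agent.Lib.Helper24.ChevAddData

set_option autoImplicit false

namespace Cfsg.Agent.Lib.Helper24

open Cfsg.Lie Matrix

/-- The bit mask of the positive roots of type G2. -/
def posMaskG2 : ℕ := 4032

/-- The sets `B_k` of the positive roots `k` of type G2, as bit masks. -/
def bkTabG2 : List ℕ := [0, 0, 0, 0, 0, 0, 3744, 2896, 1672, 388, 66, 1]

set_option maxRecDepth 1000000 in
theorem posChk_G2 : posChk chevG2 posMaskG2 = true := by decide +kernel

set_option maxRecDepth 1000000 in
theorem pnChk_G2 : pnChk chevG2 posMaskG2 = true := by decide +kernel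

set_option maxRecDepth 1000000 in
theorem ccChk_G2 : ccChk chevG2 posMaskG2 chevG2.commTerms = true := by decide +kernel

set_option maxRecDepth 1000000 in
theorem bkChk_G2 : bkChk chevG2 posMaskG2 bkTabG2 = true := by decide +kernel

/-- The bit mask of the positive roots of type B2. -/
def posMaskB2 : ℕ := 240

/-- The sets `B_k` of the positive roots `k` of type B2, as bit masks. -/
def bkTabB2 : List ℕ := [0, 0, 0, 0, 168, 84, 34, 1]

set_option maxRecDepth 1000000 in
theorem posChk_B2 : posChk chevB2 posMaskB2 = true := by decide +kernel

set_option maxRecDepth 1000000 in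
theorem pnChk_B2 : pnChk chevB2 posMaskB2 = true := by decide +kernel

set_option maxRecDepth 1000000 in
theorem ccChk_B2 : ccChk chevB2 posMaskB2 chevB2.commTerms = true := by decide +kernel

set_option maxRecDepth 1000000 in
theorem bkChk_B2 : bkChk chevB2 posMaskB2 bkTabB2 = true := by decide +kernel

/-- The bit mask of the positive roots of type D4. -/
def posMaskD4 : ℕ := 16773120

/-- The sets `B_k` of the positive roots `k` of type D4, as bit masks. -/
def bkTabD4 : List ℕ := [0, 0, 0, 0, 0, 0, 0, 0, 0, 0, 0, 0, 11094016, 10011648, 16134656, 6562048, 5509248, 786496, 8634400, 4337680, 73736, 36868, 16386, 1]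

set_option maxRecDepth 1000000 in
theorem posChk_D4 : posChk chevD4 posMaskD4 = true := by decide +kernel

set_option maxRecDepth 1000000 in
theorem pnChk_D4 : pnChk chevD4 posMaskD4 = true := by decide +kernel

set_option maxRecDepth 1000000 in
theorem ccChk_D4 : ccChk chevD4 posMaskD4 chevD4.commTerms = true := by decide +kernel

set_option maxRecDepth 1000000 in
theorem bkChk_D4 : bkChk chevD4 posMaskD4 bkTabD4 = true := by decide +kernel

/-- The bit mask of the positive roots of type F4. -/
def posMaskF4 : ℕ := 281474959933440

/-- The sets `B_k` of the positive roots `k` of type F4, as bit masks. -/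
def bkTabF4 : List ℕ := [0, 0, 0, 0, 0, 0, 0, 0, 0, 0, 0, 0, 0, 0, 0, 0, 0, 0, 0, 0, 0, 0, 0, 0, 276704652165120, 281431645356032, 272012226330624, 281454408892416, 281434862911488, 281398070214656, 280177980604416, 244684320473088, 68195490758656, 265952830701568, 239252059201536, 199375217233920, 124435268896768, 172426377823232, 97487469675008, 53214779015424, 128849019008, 140744551563328, 70374414876704, 35187727532048, 939524104, 100663300, 16777218, 1]

set_option maxRecDepth 1000000 in
theorem posChk_F4 : posChk chevF4 posMaskF4 = true := by decide +kernel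

set_option maxRecDepth 1000000 in
theorem pnChk_F4 : pnChk chevF4 posMaskF4 = true := by decide +kernel

set_option maxRecDepth 1000000 in
theorem ccChk_F4 : ccChk chevF4 posMaskF4 chevF4.commTerms = true := by decide +kernel

set_option maxRecDepth 1000000 in
theorem bkChk_F4 : bkChk chevF4 posMaskF4 bkTabF4 = true := by decide +kernel

/-- The bit mask of the positive roots of type E6. -/
def posMaskE6 : ℕ := 4722366482800925736960

/-- The sets `B_k` of the positive roots `k` of type E6, as bit masks. -/
def bkTabE6 : List ℕ := [0, 0, 0, 0, 0, 0, 0, 0, 0, 0, 0, 0, 0, 0, 0, 0, 0, 0, 0, 0, 0, 0, 0, 0, 0, 0, 0, 0, 0, 0, 0, 0, 0, 0, 0, 0, 4377114080374455009280, 4716959536119665393664, 4042459323117355401216, 4722006041384439513088, 4702973529946264174592, 3410493881882341539840, 4722214349493560672256, 4721905779114099343360, 4573734958492576382976, 2506523901190599606272, 4706000467244756238336, 4664330903858473598976, 4622517223978453434368, 2214618125948006957056, 4276870411441009590272, 3976804574575213936640, 1310655579605139193856, 1006716646647488839680, 669487106343827537920, 2810246167479255040, 4574863527944797585408,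 3670966110073693159424, 3039144785546099826688, 2702472424821398441984, 2361196118915007121408, 1844710492655384003584, 1512651075240656372224, 1180600655954212552960, 885448259063701831808, 590298084286190846016, 1139094046375968, 565492574060560, 282711927291912, 141287244169220, 70368744177666, 1]

set_option maxRecDepth 1000000 in
theorem posChk_E6 : posChk chevE6 posMaskE6 = true := by decide +kernel

set_option maxRecDepth 1000000 in
theorem pnChk_E6 : pnChk chevE6 posMaskE6 = true := by decide +kernel

set_option maxRecDepth 1000000 in
theorem ccChk_E6 : ccChk chevE6 posMaskE6 (commTermsSL chevE6) = true := by decide +kernel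

set_option maxRecDepth 1000000 in
theorem bkChk_E6 : bkChk chevE6 posMaskE6 bkTabE6 = true := by decide +kernel

end Cfsg.Agent.Lib.Helper24
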