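import Cfsg.Agent.Lib.Helper24.UProdChk
import Cfsg.Agent.Lib.Helper24.ChevAddData

set_option autoImplicit false

namespace Cfsg.Agent.Lib.Helper24

open Cfsg.Lie Matrix

/-- The bit mask of the positive roots of type E7. -/
def posMaskE7 : ℕ := 85070591730234615856620279821087277056

/-- The sets `B_k` of the positive roots `k` of type E7, as bit masks. -/
def bkTabE7 : List ℕ := [0, 0, 0, 0, 0, 0, 0, 0, 0, 0, 0, 0, 0, 0, 0, 0, 0, 0, 0, 0, 0, 0, 0, 0, 0, 0, 0, 0, 0, 0, 0, 0, 0, 0, 0, 0, 0, 0, 0, 0, 0, 0, 0, 0, 0, 0, 0, 0, 0, 0, 0, 0, 0, 0, 0, 0, 0, 0, 0, 0, 0, 0, 0, 83644436799251740918765772930379939840, 85069269976341637066199361733299011584, 82220924672894274135771657645177438208, 85070590353624389271476867017715220480, 85065314232090792869574826975475793920, 79384449295998149794989834539792072704, 85070591680716382013900627987423821824, 85070581460127428002934297659797667840, 85028941513204887590280703666739478528, 73813052631155717828573197224615346176, 85070591710281908530455663624216117248, 85070591669719718861360148780649807872, 85069942550578926668056770132513390592, 85021913643355894797407376338864570368, 63138978212973574488376579460580769792, 85070582192990102902789609797512593408, 85070520057355835465743625362947964928, 85070336205599993863207731353201147904, 84405537048667651551330357225113780224,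 64466909055566854081866836972794806272, 85066047775999044633220536939038375936, 85054363798017293645838253009831723008, 84378064514878403061398427656280604672, 53792834637525422505473193146427899904, 82951473408370383741294391600022028288, 81537848956870030326788203770544128000, 48221432903028695824625862754057584640, 46806493464576891931006994510612791296, 45382320815679757076191096058824097792, 42535957093458131668800339456177471488, 85069942703021440706838148633994461184, 85029692261026705879890396992096960512, 84775207599130979730890635085453721600, 84597187619593487372322816754429460480, 84502243122286419078077774713080250368, 41870681868999250868209294370140061696, 80413669364263631237994548883907149824, 77743348160290278235666476322762260480, 76402254952256564546442883177455288320, 32524547523564464177464619745234911232, 72317337095080157582203162378106830848, 70903572013571960756452049121596932096, 26953212993950381701218172415557763072, 25538312099409741865625398864089972736, 24114324685608319166918055018597974016, 21268296969849793657626663086115127296, 19128746150354984703904154802137923584, 17705894549362522415437574854424952832, 16283124079245204629633347476611153920, 14870778768287369176062298762749419520, 13458453740044387159117647941489135616, 10633834107640686473593194010109806592, 9304601041179321551697719213575635968,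 7975370510052101569224143067708129792, 5316913250811117764019958385926471936, 633835878215036328753630281856, 316912806236416050436094558272, 158456403113596339199619891232, 79228201547574797562955169808, 39614100736893910634058481672, 19807050073299050137676414980, 9903520314283042199192993794, 1]

set_option maxRecDepth 1000000 in
theorem posChk_E7 : posChk chevE7 posMaskE7 = true := by decide +kernel

set_option maxRecDepth 1000000 in
theorem pnChk_E7 : pnChk chevE7 posMaskE7 = true := by decide +kernel

set_option maxRecDepth 1000000 in
theorem ccChk_E7 : ccChk chevE7 posMaskE7 (commTermsSL chevE7) = true := by decide +kernel

set_option maxRecDepth 1000000 in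
theorem bkChk_E7 : bkChk chevE7 posMaskE7 bkTabE7 = true := by decide +kernel

end Cfsg.Agent.Lib.Helper24
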