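import Cfsg.Agent.Lib.Helper24.GrEntry
import Cfsg.Agent.S1055

set_option autoImplicit false

/-! The exceptional graph automorphism of `G₂` in characteristic 3. -/

namespace Cfsg.Agent.Lib.Helper24.Gr

open Cfsg.Lie Matrix Cfsg.Agent.Lib.Helper24

set_option maxRecDepth 100000 in
theorem grChk_G2 : grChk chevG2 3 [0, 4, 5, 6, 9, 10, 11] [1, 2, 3, 7, 8, 12, 13]
    [2, 3, 0, 1, 5, 4, 7, 6, 10, 11, 8, 9] [2, 3, 4, 7, 8, 9] (9, 6, 1) (11, 6, 1) = true := by
  decide +kernel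

/-- The graph automorphism of `G₂(F)`, `F` perfect of characteristic 3: `x_r(t) ↦ x_{ρ r}(t^λ)` for
every root `r`, with `λ = 3` for `r` short and `λ = 1` for `r` long. -/
theorem graph_aut_G2 {F : Type*} [Field F] [CharP F 3] (hperf : ∀ x : F, ∃ y : F, y ^ 3 = x) :
    ∃ α : ↥(chevG2.group F) ≃* ↥(chevG2.group F), ∀ (g : ↥(chevG2.group F)) (r : ℕ) (t : F),
      r < chevG2.nroots →
      ((g : GL chevG2.Idx F) : Matrix chevG2.Idx chevG2.Idx F) = chevG2.x F r t →
      ((α g : GL chevG2.Idx F) : Matrix chevG2.Idx chevG2.Idx F) =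
        chevG2.x F (([2, 3, 0, 1, 5, 4, 7, 6, 10, 11, 8, 9] : List ℕ).getD r 0)
          (t ^ (if ([2, 3, 4, 7, 8, 9] : List ℕ).contains r then 3 else 1)) := by
  have hF : ∃ a : F, a ≠ 0 ∧ a ≠ 1 := by
    refine ⟨-1, by simp, ?_⟩
    intro h
    have h2 : (2 : F) = 0 := by linear_combination -h
    have h3 : (3 : F) = 0 := by
      have := CharP.cast_eq_zero F 3
      exact_mod_cast this
    have h1 : (1 : F) = 0 := by linear_combination h3 - h2
    exact one_ne_zero h1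
  have hD : chevG2 ∈ chevList := by simp [chevList]
  exact graph_aut_of_chk chevG2 hD 3 hperf (Cfsg.Agent.S1055.result hF).1 _ _ _ _ _ _ grChk_G2

end Cfsg.Agent.Lib.Helper24.Gr
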