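import Cfsg.Agent.Lib.Helper24.OrbTree
import Cfsg.Agent.Lib.Helper24.ChevAddData

set_option autoImplicit false

namespace Cfsg.Agent.Lib.Helper24

open Cfsg.Lie Matrix

/-- The bit mask of the long roots of type G2. -/
def longMaskG2 : ℕ := 3171

/-- A tree of reflections reaching the short roots of type G2 from the root `7`. -/
def orbSG2 : List (ℕ × ℕ × ℕ) := [(4, 7, 0), (8, 7, 1), (3, 4, 1), (9, 8, 0), (2, 3, 0)]

/-- A tree of reflections reaching the long roots of type G2 from the root `6`. -/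
def orbLG2 : List (ℕ × ℕ × ℕ) := [(10, 6, 0), (5, 6, 1), (11, 10, 1), (1, 5, 0), (0, 1, 1)]

set_option maxRecDepth 1000000 in
theorem longChk_G2 : longChk chevG2 longMaskG2 = true := by decide +kernel

set_option maxRecDepth 1000000 in
theorem orbChk_G2 : orbChk chevG2 longMaskG2 7 orbSG2 6 orbLG2 = true := by decide +kernel

/-- The bit mask of the long roots of type B2. -/
def longMaskB2 : ℕ := 153

/-- A tree of reflections reaching the short roots of type B2 from the root `5`. -/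
def orbSB2 : List (ℕ × ℕ × ℕ) := [(2, 5, 0), (6, 5, 1), (1, 2, 1)]

/-- A tree of reflections reaching the long roots of type B2 from the root `4`. -/
def orbLB2 : List (ℕ × ℕ × ℕ) := [(7, 4, 0), (3, 4, 1), (0, 3, 0)]

set_option maxRecDepth 1000000 in
theorem longChk_B2 : longChk chevB2 longMaskB2 = true := by decide +kernel

set_option maxRecDepth 1000000 in
theorem orbChk_B2 : orbChk chevB2 longMaskB2 5 orbSB2 4 orbLB2 = true := by decide +kernel

/-- The bit mask of the long roots of type D4. -/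
def longMaskD4 : ℕ := 0

/-- A tree of reflections reaching the short roots of type D4 from the root `18`. -/
def orbSD4 : List (ℕ × ℕ × ℕ) := [(5, 18, 0), (19, 18, 1), (4, 5, 1), (14, 19, 0), (21, 19, 2), (20, 19, 3), (9, 4, 0), (2, 4, 2), (3, 4, 3), (16, 14, 2), (15, 14, 3), (22, 21, 3), (7, 9, 2), (8, 9, 3), (1, 2, 3), (13, 16, 1), (17, 16, 3), (12, 15, 1), (23, 22, 1), (10, 7, 1), (6, 7, 3), (11, 8, 1), (0, 1, 1)]

/-- A tree of reflections reaching the long roots of type D4 from the root `18`. -/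
def orbLD4 : List (ℕ × ℕ × ℕ) := []

set_option maxRecDepth 1000000 in
theorem longChk_D4 : longChk chevD4 longMaskD4 = true := by decide +kernel

set_option maxRecDepth 1000000 in
theorem orbChk_D4 : orbChk chevD4 longMaskD4 18 orbSD4 18 orbLD4 = true := by decide +kernel

/-- The bit mask of the long roots of type F4. -/
def longMaskF4 : ℕ := 261691415953527

/-- A tree of reflections reaching the short roots of type F4 from the root `33`. -/
def orbSF4 : List (ℕ × ℕ × ℕ) := [(14, 33, 0), (34, 33, 1), (13, 14, 1), (27, 34, 0), (35, 34, 2), (20, 13, 0), (12, 13, 2), (28, 27, 2), (37, 35, 1), (36, 35, 3), (19, 20, 2), (10, 12, 1), (11, 12, 3), (29, 28, 3), (38, 37, 3), (18, 19, 3), (9, 10, 3), (39, 38, 2), (8, 9, 2), (40, 39, 1), (7, 8, 1), (44, 40, 0), (3, 7, 0)]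

/-- A tree of reflections reaching the long roots of type F4 from the root `25`. -/
def orbLF4 : List (ℕ × ℕ × ℕ) := [(30, 25, 1), (22, 25, 2), (26, 25, 3), (41, 30, 0), (31, 30, 3), (17, 22, 1), (21, 22, 3), (24, 26, 2), (42, 41, 3), (32, 31, 2), (6, 17, 0), (16, 17, 3), (23, 21, 2), (43, 42, 2), (5, 6, 3), (15, 16, 2), (45, 43, 1), (4, 5, 2), (46, 45, 2), (2, 4, 1), (47, 46, 3), (1, 2, 2), (0, 1, 3)]

set_option maxRecDepth 1000000 in
theorem longChk_F4 : longChk chevF4 longMaskF4 = true := by decide +kernel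

set_option maxRecDepth 1000000 in
theorem orbChk_F4 : orbChk chevF4 longMaskF4 33 orbSF4 25 orbLF4 = true := by decide +kernel

/-- The bit mask of the long roots of type E6. -/
def longMaskE6 : ℕ := 0

/-- A tree of reflections reaching the short roots of type E6 from the root `56`. -/
def orbSE6 : List (ℕ × ℕ × ℕ) := [(15, 56, 0), (57, 56, 2), (14, 15, 2), (42, 57, 0), (58, 57, 3), (29, 14, 0), (13, 14, 3), (43, 42, 3), (61, 58, 1), (59, 58, 4), (28, 29, 3), (10, 13, 1), (12, 13, 4), (50, 43, 1), (39, 43, 2), (44, 43, 4), (62, 61, 4), (60, 59, 5), (21, 28, 1), (32, 28, 2), (27, 28, 4), (9, 10, 4), (11, 12, 5), (47, 50, 2), (51, 50, 4), (40, 39, 4), (45, 44, 5), (64, 62, 3), (63, 62, 5), (24, 21, 2), (20, 21, 4), (31, 32, 4), (26, 27, 5), (7, 9, 3), (8, 9, 5), (46, 47, 3), (48, 47, 4), (53, 51, 3), (52, 51, 5), (37, 40, 3), (41, 40, 5), (67, 64, 2), (65, 64, 5), (25, 24, 3), (23, 24, 4), (18, 20, 3), (19, 20, 5), (34, 31, 3), (30, 31, 5), (4, 7, 2), (6, 7, 5),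 (49, 48, 5), (54, 53, 5), (38, 37, 5), (68, 67, 5), (66, 65, 4), (22, 23, 5), (17, 18, 5), (33, 34, 5), (3, 4, 5), (5, 6, 4), (55, 54, 4), (36, 38, 4), (69, 68, 4), (16, 17, 4), (35, 33, 4), (2, 3, 4), (70, 69, 3), (1, 2, 3), (71, 70, 1), (0, 1, 1)]

/-- A tree of reflections reaching the long roots of type E6 from the root `56`. -/
def orbLE6 : List (ℕ × ℕ × ℕ) := []

set_option maxRecDepth 1000000 in
theorem longChk_E6 : longChk chevE6 longMaskE6 = true := by decide +kernel

set_option maxRecDepth 1000000 in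
theorem orbChk_E6 : orbChk chevE6 longMaskE6 56 orbSE6 56 orbLE6 = true := by decide +kernel

/-- The bit mask of the long roots of type E7. -/
def longMaskE7 : ℕ := 0

/-- A tree of reflections reaching the short roots of type E7 from the root `93`. -/
def orbSE7 : List (ℕ × ℕ × ℕ) := [(32, 93, 0), (94, 93, 2), (31, 32, 2), (73, 94, 0), (95, 94, 3), (52, 31, 0), (30, 31, 3), (74, 73, 3), (99, 95, 1), (96, 95, 4), (51, 52, 3), (26, 30, 1), (29, 30, 4), (83, 74, 1), (69, 74, 2), (75, 74, 4), (100, 99, 4), (97, 96, 5), (42, 51, 1), (56, 51, 2), (50, 51, 4), (25, 26, 4), (28, 29, 5), (79, 83, 2), (84, 83, 4), (70, 69, 4), (76, 75, 5), (103, 100, 3), (101, 100, 5), (98, 97, 6), (46, 42, 2), (41, 42, 4), (55, 56, 4), (49, 50, 5), (22, 25, 3), (24, 25, 5), (27, 28, 6), (78, 79, 3), (80, 79, 4), (87, 84, 3), (85, 84, 5), (66, 70, 3), (71, 70, 5), (77, 76, 6), (109, 103, 2), (104, 103, 5), (102, 101, 6), (47, 46, 3), (45, 46, 4), (38, 41, 3), (40, 41, 5), (59, 55, 3),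 (54, 55, 5), (48, 49, 6), (16, 22, 2), (21, 22, 5), (23, 24, 6), (81, 80, 5), (88, 87, 5), (86, 85, 6), (67, 66, 5), (72, 71, 6), (110, 109, 5), (106, 104, 4), (105, 104, 6), (44, 45, 5), (37, 38, 5), (39, 40, 6), (58, 59, 5), (53, 54, 6), (15, 16, 5), (19, 21, 4), (20, 21, 6), (82, 81, 6), (90, 88, 4), (89, 88, 6), (64, 67, 4), (68, 67, 6), (112, 110, 4), (111, 110, 6), (107, 106, 6), (43, 44, 6), (35, 37, 4), (36, 37, 6), (61, 58, 4), (57, 58, 6), (13, 15, 4), (14, 15, 6), (18, 19, 6), (91, 90, 6), (65, 64, 6), (115, 112, 3), (113, 112, 6), (108, 107, 5), (34, 35, 6), (60, 61, 6), (10, 13, 3), (12, 13, 6), (17, 18, 5), (92, 91, 5), (63, 65, 5), (119, 115, 1), (116, 115, 6), (114, 113, 5), (33, 34, 5), (62, 60, 5), (6, 10, 1), (9, 10, 6), (11, 12, 5), (120, 119, 6), (117, 116, 5), (5, 6, 6), (8, 9, 5), (121, 120, 5), (118, 117, 4), (4, 5, 5), (7, 8, 4), (122, 121, 4), (3, 4, 4), (123, 122, 3), (2, 3, 3), (124, 123, 2), (1, 2, 2), (125, 124, 0), (0, 1, 0)]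

/-- A tree of reflections reaching the long roots of type E7 from the root `93`. -/
def orbLE7 : List (ℕ × ℕ × ℕ) := []

set_option maxRecDepth 1000000 in
theorem longChk_E7 : longChk chevE7 longMaskE7 = true := by decide +kernel

set_option maxRecDepth 1000000 in
theorem orbChk_E7 : orbChk chevE7 longMaskE7 93 orbSE7 93 orbLE7 = true := by decide +kernel

/-- The bit mask of the long roots of type E8. -/
def longMaskE8 : ℕ := 0

/-- A tree of reflections reaching the short roots of type E8 from the root `162`. -/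
def orbSE8 : List (ℕ × ℕ × ℕ) := [(77, 162, 0), (163, 162, 2), (76, 77, 2), (135, 163, 0), (164, 163, 3), (104, 76, 0), (75, 76, 3), (136, 135, 3), (169, 164, 1), (165, 164, 4), (103, 104, 3), (70, 75, 1), (74, 75, 4), (147, 136, 1), (130, 136, 2), (137, 136, 4), (170, 169, 4), (166, 165, 5), (92, 103, 1), (109, 103, 2), (102, 103, 4), (69, 70, 4), (73, 74, 5), (142, 147, 2), (148, 147, 4), (131, 130, 4), (138, 137, 5), (174, 170, 3), (171, 170, 5), (167, 166, 6), (97, 92, 2), (91, 92, 4), (108, 109, 4), (101, 102, 5), (65, 69, 3), (68, 69, 5), (72, 73, 6), (141, 142, 3), (143, 142, 4), (152, 148, 3), (149, 148, 5), (126, 131, 3), (132, 131, 5), (139, 138, 6), (184, 174, 2), (175, 174, 5), (172, 171, 6), (168, 167, 7), (98, 97, 3), (96, 97, 4), (87, 91, 3), (90, 91, 5), (113, 108, 3), (107, 108, 5), (100, 101, 6), (55, 65, 2), (64, 65, 5), (67, 68, 6), (71, 72, 7), (144, 143, 5), (153, 152, 5), (150, 149, 6), (127, 126, 5), (133, 132, 6), (140, 139, 7), (185, 184,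 5), (178, 175, 4), (176, 175, 6), (173, 172, 7), (95, 96, 5), (86, 87, 5), (89, 90, 6), (112, 113, 5), (106, 107, 6), (99, 100, 7), (54, 55, 5), (61, 64, 4), (63, 64, 6), (66, 67, 7), (145, 144, 6), (156, 153, 4), (154, 153, 6), (151, 150, 7), (123, 127, 4), (128, 127, 6), (134, 133, 7), (188, 185, 4), (186, 185, 6), (179, 178, 6), (177, 176, 7), (94, 95, 6), (83, 86, 4), (85, 86, 6), (88, 89, 7), (116, 112, 4), (111, 112, 6), (105, 106, 7), (51, 54, 4), (53, 54, 6), (60, 61, 6), (62, 63, 7), (146, 145, 7), (157, 156, 6), (155, 154, 7), (124, 123, 6), (129, 128, 7), (194, 188, 3), (189, 188, 6), (187, 186, 7), (181, 179, 5), (180, 179, 7), (93, 94, 7), (82, 83, 6), (84, 85, 7), (115, 116, 6), (110, 111, 7), (45, 51, 3), (50, 51, 6), (52, 53, 7), (58, 60, 5), (59, 60, 7), (159, 157, 5), (158, 157, 7), (121, 124, 5), (125, 124, 7), (204, 194, 1), (195, 194, 6), (191, 189, 5), (190, 189, 7), (182, 181, 7), (80, 82, 5), (81, 82, 7), (118, 115, 5), (114, 115, 7), (35,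 45, 1), (44, 45, 6), (48, 50, 5), (49, 50, 7), (57, 58, 7), (160, 159, 7), (122, 121, 7), (205, 204, 6), (197, 195, 5), (196, 195, 7), (192, 191, 7), (183, 182, 6), (79, 80, 7), (117, 118, 7), (34, 35, 6), (42, 44, 5), (43, 44, 7), (47, 48, 7), (56, 57, 6), (161, 160, 6), (120, 122, 6), (207, 205, 5), (206, 205, 7), (200, 197, 4), (198, 197, 7), (193, 192, 6), (78, 79, 6), (119, 117, 6), (32, 34, 5), (33, 34, 7), (39, 42, 4), (41, 42, 7), (46, 47, 6), (210, 207, 4), (208, 207, 7), (201, 200, 7), (199, 198, 6), (29, 32, 4), (31, 32, 7), (38, 39, 7), (40, 41, 6), (214, 210, 3), (211, 210, 7), (209, 208, 6), (202, 201, 6), (25, 29, 3), (28, 29, 7), (30, 31, 6), (37, 38, 6), (219, 214, 2), (215, 214, 7), (212, 211, 6), (203, 202, 5), (20, 25, 2), (24, 25, 7), (27, 28, 6), (36, 37, 5), (226, 219, 0), (220, 219, 7), (216, 215, 6), (213, 212, 5), (13, 20, 0), (19, 20, 7), (23, 24, 6), (26, 27, 5), (227, 226, 7), (221, 220, 6), (217, 216, 5), (12, 13, 7), (18, 19, 6),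 (22, 23, 5), (228, 227, 6), (222, 221, 5), (218, 217, 4), (11, 12, 6), (17, 18, 5), (21, 22, 4), (229, 228, 5), (223, 222, 4), (10, 11, 5), (16, 17, 4), (230, 229, 4), (224, 223, 3), (9, 10, 4), (15, 16, 3), (231, 230, 3), (225, 224, 1), (8, 9, 3), (14, 15, 1), (233, 231, 1), (232, 231, 2), (6, 8, 1), (7, 8, 2), (234, 233, 2), (5, 6, 2), (235, 234, 3), (4, 5, 3), (236, 235, 4), (3, 4, 4), (237, 236, 5), (2, 3, 5), (238, 237, 6), (1, 2, 6), (239, 238, 7), (0, 1, 7)]

/-- A tree of reflections reaching the long roots of type E8 from the root `162`. -/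
def orbLE8 : List (ℕ × ℕ × ℕ) := []

set_option maxRecDepth 1000000 in
theorem longChk_E8 : longChk chevE8 longMaskE8 = true := by decide +kernel

set_option maxRecDepth 1000000 in
theorem orbChk_E8 : orbChk chevE8 longMaskE8 162 orbSE8 162 orbLE8 = true := by decide +kernel

/-- A property of roots transported by the fundamental reflections is constant on the roots of
one length. -/
theorem orbit_iff_all (D : ChevalleyDatum) (hD : D ∈ chevList) (P : ℕ → Prop)
    (hstep : ∀ k < D.rank, ∀ p < D.nroots, P p → P (D.reflectRoot k p)) (r r' : ℕ)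
    (hr : r < D.nroots) (hr' : r' < D.nroots) (hlen : D.isLong r = D.isLong r') : P r ↔ P r' := by
  have hD' := hD
  simp only [chevList, List.mem_cons, List.not_mem_nil, or_false] at hD
  rcases hD with rfl | rfl | rfl | rfl | rfl | rfl | rfl
  · exact orbit_iff _ hD' longMaskG2 7 orbSG2 6 orbLG2 longChk_G2 orbChk_G2 P hstep r r' hr hr' hlen
  · exact orbit_iff _ hD' longMaskB2 5 orbSB2 4 orbLB2 longChk_B2 orbChk_B2 P hstep r r' hr hr' hlen
  · exact orbit_iff _ hD' longMaskD4 18 orbSD4 18 orbLD4 longChk_D4 orbChk_D4 P hstep r r' hr hr' hlen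
  · exact orbit_iff _ hD' longMaskF4 33 orbSF4 25 orbLF4 longChk_F4 orbChk_F4 P hstep r r' hr hr' hlen
  · exact orbit_iff _ hD' longMaskE6 56 orbSE6 56 orbLE6 longChk_E6 orbChk_E6 P hstep r r' hr hr' hlen
  · exact orbit_iff _ hD' longMaskE7 93 orbSE7 93 orbLE7 longChk_E7 orbChk_E7 P hstep r r' hr hr' hlen
  · exact orbit_iff _ hD' longMaskE8 162 orbSE8 162 orbLE8 longChk_E8 orbChk_E8 P hstep r r' hr hr' hlen

end Cfsg.Agent.Lib.Helper24
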