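import Mathlib
import Cfsg.Agent.Lib.Helper27.ReeSig
import Cfsg.Agent.Lib.Helper24.EvalP

/-!
# The small Ree groups: the cube of an element of `U¹`

`(x_b(t) x_a(s) y)³ = (x_b(t) x_a(s))³ = x_{2a+b}(-s² t) x_{3a+2b}(-s³ t²)` for `y` in the abelian
group generated by the root elements of height at least two; hence `U¹` has `q² - 1` elements of
order three.
-/

set_option autoImplicit false
set_option maxHeartbeats 400000

namespace Cfsg.Agent.Lib.Helper24.ReeCube

open Cfsg.Lie Matrix Cfsg.Agent.Lib.Helper24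
open Cfsg.Agent.Lib.Helper27

variable {K : Type*} [Field K]

local notation "X" => xGL chevG2 Ree.hG2

theorem r87_chk : wEqChkP 3 chevG2 [(8, 1, (1, 0)), (7, 1, (0, 1))]
    [(7, 1, (0, 1)), (8, 1, (1, 0)), (9, -1, (1, 1))] = true := by decide +kernel

theorem r106_chk : wEqChkP 3 chevG2 [(10, 1, (1, 0)), (6, 1, (0, 1))]
    [(6, 1, (0, 1)), (10, 1, (1, 0)), (11, -1, (1, 1))] = true := by decide +kernel

theorem c97_chk : wEqChkP 3 chevG2 [(9, 1, (1, 0)), (7, 1, (0, 1))]
    [(7, 1, (0, 1)), (9, 1, (1, 0))] = true := by decide +kernel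

theorem cube_chk : wEqChkP 3 chevG2
    [(6, 1, (0, 1)), (7, 1, (1, 0)), (6, 1, (0, 1)), (7, 1, (1, 0)), (6, 1, (0, 1)), (7, 1, (1, 0))]
    [(9, -1, (2, 1)), (11, -1, (3, 2))] = true := by decide +kernel

theorem g2_cc : commuteChk chevG2 8 6 = true ∧ commuteChk chevG2 9 6 = true ∧
    commuteChk chevG2 10 7 = true ∧ commuteChk chevG2 11 6 = true ∧
    commuteChk chevG2 11 7 = true := by decide +kernel

/-- a cube in a group of class three -/
theorem cube_of_rel {G : Type*} [Group G] (x y z : G) (hyx : y * x = x * (y * z))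
    (hzx : z * x = x * z) (hzy : z * y = y * z) (hy3 : y * y * y = 1) (hz3 : z * z * z = 1) :
    (x * y) * (x * y) * (x * y) = x * x * x := by
  calc (x * y) * (x * y) * (x * y) = x * (y * x) * (y * x) * y := by group
    _ = x * (x * (y * z)) * (x * (y * z)) * y := by rw [hyx]
    _ = x * x * y * (z * x) * y * z * y := by group
    _ = x * x * y * (x * z) * y * z * y := by rw [hzx]
    _ = x * x * (y * x) * (z * y) * z * y := by group
    _ = x * x * (x * (y * z)) * (y * z) * z * y := by rw [hyx, hzy]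
    _ = x * x * x * y * (z * y) * z * z * y := by group
    _ = x * x * x * y * (y * z) * z * z * y := by rw [hzy]
    _ = x * x * x * y * y * (z * z * z) * y := by group
    _ = x * x * x * y * y * 1 * y := by rw [hz3]
    _ = x * x * x * (y * y * y) := by group
    _ = x * x * x := by rw [hy3, mul_one]

section rel

variable [CharP K 3]

theorem three_zero (a : K) : a + a + a = 0 := by
  have h3 : (3 : K) = 0 := by exact_mod_cast CharP.cast_eq_zero K 3
  linear_combination a * h3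

theorem T87 (a s : K) (Z : GL chevG2.Idx K) :
    X 8 a * (X 7 s * Z) = X 7 s * (X 8 a * (X 9 (-(a * s)) * Z)) := by
  by_cases ha : a = 0
  · subst ha
    simp only [zero_mul, neg_zero, xGL_zero, one_mul]
  · have key := wEqP_sound (F := K) 3 chevG2 (preChk_of_mem chevG2 Ree.hG2) _ _ r87_chk a s ha
    simp only [wEval, List.map_cons, List.map_nil, evalM, Int.cast_one, Int.cast_neg, one_mul,
      zpow_zero, zpow_one, pow_zero, pow_one, mul_one, neg_mul] at key
    have h : X 8 a * X 7 s = X 7 s * (X 8 a * X 9 (-(a * s))) := by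
      apply Units.ext
      simp only [Units.val_mul, xGL_val]
      simpa only [wmat_cons, wmat_nil, Matrix.mul_one] using key
    rw [← mul_assoc, h]
    simp only [mul_assoc]

theorem T106 (c t : K) (Z : GL chevG2.Idx K) :
    X 10 c * (X 6 t * Z) = X 6 t * (X 10 c * (X 11 (-(c * t)) * Z)) := by
  by_cases hc : c = 0
  · subst hc
    simp only [zero_mul, neg_zero, xGL_zero, one_mul]
  · have key := wEqP_sound (F := K) 3 chevG2 (preChk_of_mem chevG2 Ree.hG2) _ _ r106_chk c t hc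
    simp only [wEval, List.map_cons, List.map_nil, evalM, Int.cast_one, Int.cast_neg, one_mul,
      zpow_zero, zpow_one, pow_zero, pow_one, mul_one, neg_mul] at key
    have h : X 10 c * X 6 t = X 6 t * (X 10 c * X 11 (-(c * t))) := by
      apply Units.ext
      simp only [Units.val_mul, xGL_val]
      simpa only [wmat_cons, wmat_nil, Matrix.mul_one] using key
    rw [← mul_assoc, h]
    simp only [mul_assoc]

theorem C97 (b s : K) : X 9 b * X 7 s = X 7 s * X 9 b := by
  by_cases hb : b = 0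
  · subst hb
    simp only [xGL_zero, one_mul, mul_one]
  · have key := wEqP_sound (F := K) 3 chevG2 (preChk_of_mem chevG2 Ree.hG2) _ _ c97_chk b s hb
    simp only [wEval, List.map_cons, List.map_nil, evalM, Int.cast_one, one_mul,
      zpow_zero, zpow_one, pow_zero, pow_one, mul_one] at key
    apply Units.ext
    simp only [Units.val_mul, xGL_val]
    simpa only [wmat_cons, wmat_nil, Matrix.mul_one] using key

theorem tail_of_comm {G : Type*} [Group G] {A B : G} (h : A * B = B * A) (Z : G) :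
    A * (B * Z) = B * (A * Z) := by
  rw [← mul_assoc, h, mul_assoc]

/-- the cube of `x_b(t) x_a(s)` -/
theorem cube67 (t s : K) : (X 6 t * X 7 s) * (X 6 t * X 7 s) * (X 6 t * X 7 s) =
    X 9 (-(s ^ 2 * t)) * X 11 (-(s ^ 3 * t ^ 2)) := by
  by_cases hs : s = 0
  · subst hs
    have h0 : X 6 t * X 6 t * X 6 t = 1 := by
      rw [← xGL_add chevG2 Ree.hG2 6 Ree.g2_lt.1, ← xGL_add chevG2 Ree.hG2 6 Ree.g2_lt.1,
        three_zero, xGL_zero]
    simp only [xGL_zero, mul_one, ne_eq, OfNat.ofNat_ne_zero, not_false_eq_true, zero_pow,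
      zero_mul, neg_zero]
    exact h0
  · have key := wEqP_sound (F := K) 3 chevG2 (preChk_of_mem chevG2 Ree.hG2) _ _ cube_chk s t hs
    simp only [wEval, List.map_cons, List.map_nil, evalM, Int.cast_one, Int.cast_neg, one_mul,
      zpow_zero, zpow_one, zpow_ofNat, pow_zero, pow_one, mul_one, neg_mul] at key
    apply Units.ext
    simp only [Units.val_mul, xGL_val]
    simpa only [wmat_cons, wmat_nil, Matrix.mul_one, Matrix.mul_assoc] using key

/-- `y x = x y z` -/
theorem yx_tail (a b c d t s : K) (Z : GL chevG2.Idx K) :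
    X 8 a * (X 9 b * (X 10 c * (X 11 d * (X 6 t * (X 7 s * Z))))) =
      X 6 t * (X 7 s * (X 8 a * (X 9 (-(a * s)) * (X 9 b * (X 10 c *
        (X 11 (-(c * t)) * (X 11 d * Z))))))) := by
  have c116 : ∀ (p q : K) (W : GL chevG2.Idx K), X 11 p * (X 6 q * W) = X 6 q * (X 11 p * W) :=
    fun p q W => tail_of_comm (commute_of_chk chevG2 Ree.hG2 11 6 g2_cc.2.2.2.1 p q).eq W
  have c117 : ∀ (p q : K) (W : GL chevG2.Idx K), X 11 p * (X 7 q * W) = X 7 q * (X 11 p * W) :=
    fun p q W => tail_of_comm (commute_of_chk chevG2 Ree.hG2 11 7 g2_cc.2.2.2.2 p q).eq W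
  have c96 : ∀ (p q : K) (W : GL chevG2.Idx K), X 9 p * (X 6 q * W) = X 6 q * (X 9 p * W) :=
    fun p q W => tail_of_comm (commute_of_chk chevG2 Ree.hG2 9 6 g2_cc.2.1 p q).eq W
  have c86 : ∀ (p q : K) (W : GL chevG2.Idx K), X 8 p * (X 6 q * W) = X 6 q * (X 8 p * W) :=
    fun p q W => tail_of_comm (commute_of_chk chevG2 Ree.hG2 8 6 g2_cc.1 p q).eq W
  have c107 : ∀ (p q : K) (W : GL chevG2.Idx K), X 10 p * (X 7 q * W) = X 7 q * (X 10 p * W) :=
    fun p q W => tail_of_comm (commute_of_chk chevG2 Ree.hG2 10 7 g2_cc.2.2.1 p q).eq W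
  have c97 : ∀ (p q : K) (W : GL chevG2.Idx K), X 9 p * (X 7 q * W) = X 7 q * (X 9 p * W) :=
    fun p q W => tail_of_comm (C97 p q) W
  rw [c116, T106, c96, c86, c117, c117, c107, c97, T87]

theorem YY (a b c d a' b' c' d' : K) :
    (X 8 a * (X 9 b * (X 10 c * X 11 d))) * (X 8 a' * (X 9 b' * (X 10 c' * X 11 d'))) =
      X 8 (a + a') * (X 9 (b + b') * (X 10 (c + c') * X 11 (d + d'))) := by
  simp only [mul_assoc]
  exact Ree.y4_mul a b c d a' b' c' d'

theorem Y3 (a b c d : K) :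
    (X 8 a * (X 9 b * (X 10 c * X 11 d))) * (X 8 a * (X 9 b * (X 10 c * X 11 d))) *
      (X 8 a * (X 9 b * (X 10 c * X 11 d))) = 1 := by
  rw [YY, YY, three_zero, three_zero, three_zero, three_zero]
  simp only [xGL_zero, mul_one]

theorem Z3 (p q : K) : (X 9 p * X 11 q) * (X 9 p * X 11 q) * (X 9 p * X 11 q) = 1 := by
  have h := Y3 (0 : K) p 0 q
  simp only [xGL_zero, one_mul] at h
  exact h

theorem YZ (a b c d p q : K) :
    (X 8 a * (X 9 b * (X 10 c * X 11 d))) * (X 9 p * X 11 q) =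
      X 8 a * (X 9 (b + p) * (X 10 c * X 11 (d + q))) := by
  have h := YY a b c d 0 p 0 q
  simp only [xGL_zero, one_mul, add_zero] at h
  exact h

theorem ZY (a b c d p q : K) :
    (X 9 p * X 11 q) * (X 8 a * (X 9 b * (X 10 c * X 11 d))) =
      X 8 a * (X 9 (b + p) * (X 10 c * X 11 (d + q))) := by
  have h := YY 0 p 0 q a b c d
  simp only [xGL_zero, one_mul, zero_add] at h
  rw [h, add_comm p b, add_comm q d]

theorem YX (a b c d t s : K) :
    (X 8 a * (X 9 b * (X 10 c * X 11 d))) * (X 6 t * X 7 s) =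
      (X 6 t * X 7 s) * (X 8 a * (X 9 (b + -(a * s)) * (X 10 c * X 11 (d + -(c * t))))) := by
  have h := yx_tail a b c d t s 1
  simp only [mul_one] at h
  simp only [mul_assoc]
  rw [h, ← mul_assoc (X 9 (-(a * s))) (X 9 b), ← xGL_add chevG2 Ree.hG2 9 Ree.g2_lt.2.2.2.1,
    ← xGL_add chevG2 Ree.hG2 11 Ree.g2_lt.2.2.2.2.2, add_comm (-(a * s)) b, add_comm (-(c * t)) d]

theorem ZX (p q t s : K) :
    (X 9 p * X 11 q) * (X 6 t * X 7 s) = (X 6 t * X 7 s) * (X 9 p * X 11 q) := by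
  have h96 : Commute (X 9 p) (X 6 t) := commute_of_chk chevG2 Ree.hG2 9 6 g2_cc.2.1 p t
  have h97 : Commute (X 9 p) (X 7 s) := C97 p s
  have h116 : Commute (X 11 q) (X 6 t) := commute_of_chk chevG2 Ree.hG2 11 6 g2_cc.2.2.2.1 q t
  have h117 : Commute (X 11 q) (X 7 s) := commute_of_chk chevG2 Ree.hG2 11 7 g2_cc.2.2.2.2 q s
  exact ((h96.mul_right h97).mul_left (h116.mul_right h117)).eq

/-- the cube of an element of `U` in normal form -/
theorem u6_cube (t s a b c d : K) :
    wGL chevG2 Ree.hG2 (Ree.u6 t s a b c d) ^ 3 =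
      X 9 (-(s ^ 2 * t)) * X 11 (-(s ^ 3 * t ^ 2)) := by
  have e : X 6 t * (X 7 s * (X 8 a * (X 9 b * (X 10 c * X 11 d)))) =
      (X 6 t * X 7 s) * (X 8 a * (X 9 b * (X 10 c * X 11 d))) := by rw [mul_assoc]
  rw [Ree.u6_val, pow_three', e,
    cube_of_rel (X 6 t * X 7 s) (X 8 a * (X 9 b * (X 10 c * X 11 d)))
      (X 9 (-(a * s)) * X 11 (-(c * t))) (by rw [YX, YZ]) (ZX _ _ _ _) (by rw [ZY, YZ])
      (Y3 a b c d) (Z3 _ _), cube67]

/-- the cube of a generating word of `U¹` -/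
theorem reeU_cube (e : ℕ) (t u v : K) :
    wGL chevG2 Ree.hG2 (reeWordU e t u v) ^ 3 =
      X 9 (-((t ^ e) ^ 2 * t)) * X 11 (-((t ^ e) ^ 3 * t ^ 2)) := by
  rw [Ree.reeU_nf, u6_cube]

theorem reeU_cube_iff (e : ℕ) (t u v : K) :
    wGL chevG2 Ree.hG2 (reeWordU e t u v) ^ 3 = 1 ↔ t = 0 := by
  rw [reeU_cube]
  constructor
  · intro h
    by_contra ht
    have e1 : wGL chevG2 Ree.hG2 (Ree.u6 0 0 0 (-((t ^ e) ^ 2 * t)) 0 (-((t ^ e) ^ 3 * t ^ 2))) =
        wGL chevG2 Ree.hG2 (Ree.u6 (0 : K) 0 0 0 0 0) := by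
      rw [Ree.u6_val, Ree.u6_val]
      simp only [xGL_zero, one_mul, mul_one]
      exact h
    have h4 := (Ree.u6_inj _ _ _ _ _ _ _ _ _ _ _ _ e1).2.2.2.1
    rw [neg_eq_zero] at h4
    exact mul_ne_zero (pow_ne_zero 2 (pow_ne_zero e ht)) ht h4
  · intro ht
    subst ht
    simp only [mul_zero, neg_zero, ne_eq, OfNat.ofNat_ne_zero, not_false_eq_true, zero_pow,
      xGL_zero, mul_one]

end rel

/-- `U¹` has exactly `q² - 1` elements of order three. -/
theorem card_order_three [Fintype K] {m : ℕ} (hK : Fintype.card K = 3 ^ (2 * m + 1)) :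
    Nat.card {u : ↥(chevG2.posUnipotent K ⊓ twistedG2 K (3 ^ m)) // orderOf u = 3} =
      (3 ^ (2 * m + 1)) ^ 2 - 1 := by
  classical
  have : CharP K 3 := Ree.charP_three (by omega) hK
  have : Fact (Nat.Prime 3) := ⟨Nat.prime_three⟩
  obtain ⟨σ, hσ⟩ := Ree.exists_sig m hK
  obtain ⟨hF, hadd, hsub, hodd⟩ := Ree.field_facts m hK
  have he : (3 : ℕ) ^ m ≠ 0 := pow_ne_zero _ (by norm_num)
  have hiff := Ree.U1_iff hσ hF hadd hodd hsub
  have hinj : ∀ t u v t' u' v' : K, wGL chevG2 Ree.hG2 (reeWordU (3 ^ m) t u v) =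
      wGL chevG2 Ree.hG2 (reeWordU (3 ^ m) t' u' v') → t = t' ∧ u = u' ∧ v = v' := by
    intro t u v t' u' v' h'
    rw [Ree.reeU_nf, Ree.reeU_nf] at h'
    obtain ⟨i1, -, -, -, i5, i6⟩ := Ree.u6_inj _ _ _ _ _ _ _ _ _ _ _ _ h'
    subst i1
    exact ⟨rfl, add_right_cancel i5, add_right_cancel i6⟩
  have hone : wGL chevG2 Ree.hG2 (reeWordU (3 ^ m) (0 : K) 0 0) = 1 := by
    rw [Ree.reeU_val]
    simp only [zero_pow he, zero_pow (Nat.succ_ne_zero _), add_zero, xGL_zero, mul_one]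
  let ψ : {p : K × K // p ≠ 0} →
      {u : ↥(chevG2.posUnipotent K ⊓ twistedG2 K (3 ^ m)) // orderOf u = 3} := fun p =>
    ⟨⟨wGL chevG2 Ree.hG2 (reeWordU (3 ^ m) 0 p.1.1 p.1.2),
      (hiff _).2 ⟨0, p.1.1, p.1.2, wGL_val chevG2 Ree.hG2 _⟩⟩, by
      apply orderOf_eq_prime
      · apply Subtype.ext
        rw [Subgroup.coe_pow]
        exact (reeU_cube_iff (3 ^ m) 0 p.1.1 p.1.2).2 rfl
      · intro h1
        have h2 : wGL chevG2 Ree.hG2 (reeWordU (3 ^ m) 0 p.1.1 p.1.2) =
            wGL chevG2 Ree.hG2 (reeWordU (3 ^ m) (0 : K) 0 0) := by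
          rw [hone]
          exact congrArg Subtype.val h1
        obtain ⟨-, h3, h4⟩ := hinj _ _ _ _ _ _ h2
        exact p.2 (Prod.ext h3 h4)⟩
  have hbij : Function.Bijective ψ := by
    constructor
    · intro p p' h
      have h' : wGL chevG2 Ree.hG2 (reeWordU (3 ^ m) 0 p.1.1 p.1.2) =
          wGL chevG2 Ree.hG2 (reeWordU (3 ^ m) 0 p'.1.1 p'.1.2) :=
        congrArg (fun x : {u : ↥(chevG2.posUnipotent K ⊓ twistedG2 K (3 ^ m)) // orderOf u = 3} =>
          ((x : ↥(chevG2.posUnipotent K ⊓ twistedG2 K (3 ^ m))) : GL chevG2.Idx K)) h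
      obtain ⟨-, h3, h4⟩ := hinj _ _ _ _ _ _ h'
      exact Subtype.ext (Prod.ext h3 h4)
    · rintro ⟨⟨g, hg⟩, ho⟩
      obtain ⟨t, u, v, h⟩ := (hiff g).1 hg
      have eg : g = wGL chevG2 Ree.hG2 (reeWordU (3 ^ m) t u v) :=
        Units.ext (by rw [h, wGL_val])
      have h3 : g ^ 3 = 1 := by
        have h5 := pow_orderOf_eq_one (⟨g, hg⟩ : ↥(chevG2.posUnipotent K ⊓ twistedG2 K (3 ^ m)))
        rw [ho] at h5
        have h6 := congrArg Subtype.val h5
        rw [Subgroup.coe_pow] at h6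
        exact h6
      have ht : t = 0 := by
        rw [eg] at h3
        exact (reeU_cube_iff (3 ^ m) t u v).1 h3
      subst ht
      have hne : ((u, v) : K × K) ≠ 0 := by
        intro h0
        have hu : u = 0 := congrArg Prod.fst h0
        have hv : v = 0 := congrArg Prod.snd h0
        rw [hu, hv, hone] at eg
        have h7 : (⟨g, hg⟩ : ↥(chevG2.posUnipotent K ⊓ twistedG2 K (3 ^ m))) = 1 :=
          Subtype.ext eg
        rw [h7, orderOf_one] at ho
        exact absurd ho (by norm_num)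
      exact ⟨⟨(u, v), hne⟩, Subtype.ext (Subtype.ext eg.symm)⟩
  rw [← Nat.card_congr (Equiv.ofBijective ψ hbij), Nat.card_eq_fintype_card, Fintype.card_subtype,
    Finset.filter_ne', Finset.card_erase_of_mem (Finset.mem_univ _), Finset.card_univ,
    Fintype.card_prod, hK, sq]

end Cfsg.Agent.Lib.Helper24.ReeCube
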