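import Cfsg.Agent.Lib.Helper24.ReeRk
import Cfsg.Agent.Lib.Helper24.EvalP

/-!
# The small Ree groups: the subgroup `H¹` has order `q - 1`
-/

set_option autoImplicit false
set_option maxHeartbeats 400000

namespace Cfsg.Agent.Lib.Helper24.ReeH

open Cfsg.Lie Matrix Cfsg.Agent.Lib.Helper24 Cfsg.Agent.Lib.Helper27

variable {K : Type*} [Field K]

local notation "X" => xGL chevG2 Ree.hG2

/-- In characteristic `3`: `h_{a+b}(-1) = U(1,0,0) V(1,0,0)⁻¹ U(0,1,0) V(0,0,1) U(1,0,0)`. -/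
theorem hm1_chk : wEqChkP 3 chevG2
    [(7, 1, (0, 0)), (6, 1, (0, 0)), (8, 1, (0, 0)), (9, 1, (0, 0)),
      (2, 1, (0, 0)), (3, 1, (0, 0)), (5, 1, (0, 0)), (4, 1, (0, 0)),
      (8, 1, (0, 0)), (10, 1, (0, 0)), (2, -1, (0, 0)), (0, -1, (0, 0)),
      (7, 1, (0, 0)), (6, 1, (0, 0)), (8, 1, (0, 0)), (9, 1, (0, 0))]
    [(8, -1, (0, 0)), (3, 1, (0, 0)), (8, -1, (0, 0)), (8, -1, (0, 0)), (3, 1, (0, 0)),
      (8, -1, (0, 0))] = true := by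
  decide +kernel

theorem g2_neg8 : chevG2.neg 8 = 3 ∧ chevG2.neg 10 = 1 := by decide

theorem hm1_eq [CharP K 3] :
    X 7 1 * (X 6 1 * (X 8 1 * X 9 1)) * (X 4 (-1) * (X 5 (-1) * (X 3 (-1) * X 2 (-1))))⁻¹ *
      (X 8 1 * X 10 1) * (X 2 (-1) * X 0 (-1)) * (X 7 1 * (X 6 1 * (X 8 1 * X 9 1))) =
    wGL chevG2 Ree.hG2 (chevG2.hWord 8 (-1 : K)) := by
  have key := wEqP_sound (F := K) 3 chevG2 (preChk_of_mem chevG2 Ree.hG2) _ _ hm1_chk 1 1
    one_ne_zero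
  simp only [wEval, List.map_cons, List.map_nil, evalM, Int.cast_one, Int.cast_neg, one_mul,
    zpow_zero, pow_zero, mul_one, neg_mul] at key
  have e1 : (X 4 (-1 : K) * (X 5 (-1) * (X 3 (-1) * X 2 (-1))))⁻¹ =
      X 2 1 * (X 3 1 * (X 5 1 * X 4 1)) := by
    simp only [_root_.mul_inv_rev, xGL_inv, neg_neg, mul_assoc]
  have e2 : chevG2.hWord 8 (-1 : K) = [(8, -1), (3, 1), (8, -1), (8, -1), (3, 1), (8, -1)] := by
    unfold ChevalleyDatum.hWord ChevalleyDatum.nWord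
    rw [g2_neg8.1]
    simp
  rw [e1, e2]
  apply Units.ext
  rw [wGL_val, ← key]
  simp only [Units.val_mul, xGL_val, wmat_cons, wmat_nil, Matrix.mul_one, Matrix.mul_assoc]

/-- `h_{a+b}(-1)` lies in `²G₂`. -/
theorem hm1_mem [CharP K 3] (e : ℕ) (he : e ≠ 0) :
    wGL chevG2 Ree.hG2 (chevG2.hWord 8 (-1 : K)) ∈ twistedG2 K e := by
  rw [← hm1_eq]
  have hU1 : X 7 (1 : K) * (X 6 1 * (X 8 1 * X 9 1)) ∈ twistedG2 K e := by
    have h := Ree.reeU_mem (K := K) e 1 0 0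
    rw [Ree.reeU_val] at h
    simpa only [one_pow, zero_pow he, add_zero, xGL_zero, mul_one] using h
  have hV1 : X 4 (-1 : K) * (X 5 (-1) * (X 3 (-1) * X 2 (-1))) ∈ twistedG2 K e := by
    have h := Ree.reeV_mem (K := K) e 1 0 0
    rw [Ree.reeV_val] at h
    simpa only [one_pow, zero_pow he, add_zero, neg_zero, xGL_zero, mul_one] using h
  have hU2 : X 8 (1 : K) * X 10 1 ∈ twistedG2 K e := by
    have h := Ree.reeU_mem (K := K) e 0 1 0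
    rwa [Ree.reeU_010 e he] at h
  have hV3 : X 2 (-1 : K) * X 0 (-1) ∈ twistedG2 K e := by
    have h := Ree.reeV_mem (K := K) e 0 0 1
    rw [Ree.reeV_val] at h
    simpa only [zero_pow he, zero_pow (Nat.succ_ne_zero _), one_pow, zero_add, add_zero, neg_zero,
      xGL_zero, one_mul, mul_one] using h
  exact Subgroup.mul_mem _ (Subgroup.mul_mem _ (Subgroup.mul_mem _
    (Subgroup.mul_mem _ hU1 (Subgroup.inv_mem _ hV1)) hU2) hV3) hU1

/-! ### the elements `h(y)` -/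

theorem cX_10_8 (s t : K) : Commute (X 10 s) (X 8 t) := commute_of_chk chevG2 Ree.hG2 10 8 Ree.g2_c1 s t
theorem cX_10_3 (s t : K) : Commute (X 10 s) (X 3 t) := commute_of_chk chevG2 Ree.hG2 10 3 Ree.g2_c2 s t
theorem cX_1_8 (s t : K) : Commute (X 1 s) (X 8 t) := commute_of_chk chevG2 Ree.hG2 1 8 Ree.g2_c3 s t
theorem cX_1_3 (s t : K) : Commute (X 1 s) (X 3 t) := commute_of_chk chevG2 Ree.hG2 1 3 Ree.g2_c4 s t

theorem n8_eq (c : K) : wGL chevG2 Ree.hG2 (chevG2.nWord 8 c) = X 8 c * (X 3 (-c⁻¹) * X 8 c) := by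
  unfold ChevalleyDatum.nWord
  rw [g2_neg8.1]
  simp only [wGL_cons, wGL_nil, mul_one]

theorem n10_eq (c : K) : wGL chevG2 Ree.hG2 (chevG2.nWord 10 c) = X 10 c * (X 1 (-c⁻¹) * X 10 c) := by
  unfold ChevalleyDatum.nWord
  rw [g2_neg8.2]
  simp only [wGL_cons, wGL_nil, mul_one]

theorem comm_n10_n8 (s t : K) : Commute (wGL chevG2 Ree.hG2 (chevG2.nWord 10 s))
    (wGL chevG2 Ree.hG2 (chevG2.nWord 8 t)) := by
  rw [n8_eq, n10_eq]
  have hA : ∀ a : K, Commute (X 10 a) (X 8 t * (X 3 (-t⁻¹) * X 8 t)) := fun a =>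
    (cX_10_8 a t).mul_right ((cX_10_3 a _).mul_right (cX_10_8 a t))
  have hB : ∀ a : K, Commute (X 1 a) (X 8 t * (X 3 (-t⁻¹) * X 8 t)) := fun a =>
    (cX_1_8 a t).mul_right ((cX_1_3 a _).mul_right (cX_1_8 a t))
  exact (hA s).mul_left ((hB _).mul_left (hA s))

/-- `n(y) = U(0,y,0) V(0,y⁻¹,0) U(0,y,0) = n_{a+b}(y^e) n_{3a+b}(y)` lies in `²G₂`. -/
theorem ny_mem (e : ℕ) (he : e ≠ 0) (y : K) :
    wGL chevG2 Ree.hG2 (chevG2.nWord 8 (y ^ e)) * wGL chevG2 Ree.hG2 (chevG2.nWord 10 y) ∈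
      twistedG2 K e := by
  have hU := Ree.reeU_mem (K := K) e 0 y 0
  have hV := Ree.reeV_mem (K := K) e 0 y⁻¹ 0
  rw [Ree.reeU_val] at hU
  rw [Ree.reeV_val] at hV
  simp only [zero_pow he, zero_pow (Nat.succ_ne_zero _), zero_add, add_zero, neg_zero, xGL_zero,
    one_mul, mul_one] at hU hV
  have e1 : wGL chevG2 Ree.hG2 (chevG2.nWord 8 (y ^ e)) * wGL chevG2 Ree.hG2 (chevG2.nWord 10 y) =
      (X 8 (y ^ e) * X 10 y) * ((X 3 (-(y⁻¹) ^ e) * X 1 (-y⁻¹)) * (X 8 (y ^ e) * X 10 y)) := by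
    rw [n8_eq, n10_eq, inv_pow]
    have h := Ree.rearr6 (X 8 (y ^ e)) (X 10 y) (X 3 (-(y ^ e)⁻¹)) (X 1 (-y⁻¹))
      (cX_10_3 _ _) (cX_1_8 _ _) (cX_10_8 _ _)
    rw [← h]
    simp only [mul_assoc]
  rw [e1]
  exact Subgroup.mul_mem _ hU (Subgroup.mul_mem _ hV hU)

theorem nW_inv (r : ℕ) (hr : r < chevG2.nroots) :
    (wGL (F := K) chevG2 Ree.hG2 (chevG2.nWord r 1))⁻¹ = wGL chevG2 Ree.hG2 (chevG2.nWord r (-1)) :=
  (eq_inv_of_mul_eq_one_left (ASig.rk_nW_neg_mul (F := K) (hD := Ree.hG2) r hr)).symm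

/-- the element `h(y) = h_{a+b}(y^e) h_{3a+b}(y)` -/
def hy (e : ℕ) (y : K) : GL chevG2.Idx K :=
  (wGL chevG2 Ree.hG2 (chevG2.nWord 8 (y ^ e)) * wGL chevG2 Ree.hG2 (chevG2.nWord 8 (-1))) *
    (wGL chevG2 Ree.hG2 (chevG2.nWord 10 y) * wGL chevG2 Ree.hG2 (chevG2.nWord 10 (-1)))

theorem hy_eq (e : ℕ) (y : K) : hy e y =
    (wGL chevG2 Ree.hG2 (chevG2.nWord 8 (y ^ e)) * wGL chevG2 Ree.hG2 (chevG2.nWord 10 y)) *
      (wGL chevG2 Ree.hG2 (chevG2.nWord 8 ((1 : K) ^ e)) *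
        wGL chevG2 Ree.hG2 (chevG2.nWord 10 (1 : K)))⁻¹ := by
  unfold hy
  rw [one_pow, _root_.mul_inv_rev, nW_inv 8 (by decide), nW_inv 10 (by decide)]
  have c1 := comm_n10_n8 (K := K) y (-1)
  have c2 := comm_n10_n8 (K := K) (-1) (-1)
  have c3 : Commute (wGL chevG2 Ree.hG2 (chevG2.nWord 10 y) *
      wGL chevG2 Ree.hG2 (chevG2.nWord 10 (-1 : K))) (wGL chevG2 Ree.hG2 (chevG2.nWord 8 (-1 : K))) :=
    c1.mul_left c2
  calc wGL chevG2 Ree.hG2 (chevG2.nWord 8 (y ^ e)) * wGL chevG2 Ree.hG2 (chevG2.nWord 8 (-1)) *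
        (wGL chevG2 Ree.hG2 (chevG2.nWord 10 y) * wGL chevG2 Ree.hG2 (chevG2.nWord 10 (-1)))
      = wGL chevG2 Ree.hG2 (chevG2.nWord 8 (y ^ e)) * (wGL chevG2 Ree.hG2 (chevG2.nWord 8 (-1)) *
        (wGL chevG2 Ree.hG2 (chevG2.nWord 10 y) * wGL chevG2 Ree.hG2 (chevG2.nWord 10 (-1)))) := by
        rw [mul_assoc]
    _ = wGL chevG2 Ree.hG2 (chevG2.nWord 8 (y ^ e)) * ((wGL chevG2 Ree.hG2 (chevG2.nWord 10 y) *
        wGL chevG2 Ree.hG2 (chevG2.nWord 10 (-1))) * wGL chevG2 Ree.hG2 (chevG2.nWord 8 (-1))) := by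
        rw [c3.eq]
    _ = _ := by simp only [mul_assoc]

theorem hy_mem (e : ℕ) (he : e ≠ 0) (y : K) : hy e y ∈ twistedG2 K e := by
  rw [hy_eq]
  exact Subgroup.mul_mem _ (ny_mem e he y) (Subgroup.inv_mem _ (ny_mem e he 1))

theorem hy_diag (e : ℕ) (y : K) (hy0 : y ≠ 0) : hy e y ∈ chevG2.diagonalSubgroup K := by
  unfold hy
  exact Subgroup.mul_mem _
    (ASig.rk_hW_mem (F := K) (hD := Ree.hG2) 8 (by decide) (y ^ e) (pow_ne_zero _ hy0))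
    (ASig.rk_hW_mem (F := K) (hD := Ree.hG2) 10 (by decide) y hy0)

theorem g2_W : W chevG2 8 7 = -1 ∧ W chevG2 10 7 = 1 := by decide +kernel

theorem hW_val (r : ℕ) (c : K) : ((wGL chevG2 Ree.hG2 (chevG2.nWord r c) *
    wGL chevG2 Ree.hG2 (chevG2.nWord r (-1)) : GL chevG2.Idx K) : Matrix chevG2.Idx chevG2.Idx K) =
      chevG2.hMat K r c := by
  rw [Units.val_mul, wGL_val, wGL_val, hMat_eq_nMat_mul]
  rfl

theorem hy_dEnt (e : ℕ) (y : K) (hy0 : y ≠ 0) : dEnt chevG2 (hy e y) 7 = (y ^ e)⁻¹ * y := by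
  have hx : ((hy e y : GL chevG2.Idx K) : Matrix chevG2.Idx chevG2.Idx K) =
      torus K chevG2 (fun s => (y ^ e) ^ W chevG2 8 s * y ^ W chevG2 10 s) := by
    unfold hy
    rw [Units.val_mul, hW_val, hW_val,
      hMat_eq_torus chevG2 Ree.hG2 8 (by decide) (y ^ e) (pow_ne_zero _ hy0),
      hMat_eq_torus chevG2 Ree.hG2 10 (by decide) y hy0, torus_mul_torus]
  rw [dEnt_torus chevG2 _ _ hx 7 (by decide), g2_W.1, g2_W.2, _root_.zpow_neg_one, zpow_one]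

theorem hm1_val : ((wGL chevG2 Ree.hG2 (chevG2.hWord 8 (-1 : K)) : GL chevG2.Idx K) :
    Matrix chevG2.Idx chevG2.Idx K) = chevG2.hMat K 8 (-1) := by
  rw [wGL_val]
  rfl

theorem hm1_diag : wGL chevG2 Ree.hG2 (chevG2.hWord 8 (-1 : K)) ∈ chevG2.diagonalSubgroup K := by
  unfold ChevalleyDatum.diagonalSubgroup
  exact Subgroup.subset_closure ⟨8, -1, by decide, by simp, hm1_val⟩

theorem hm1_dEnt : dEnt chevG2 (wGL chevG2 Ree.hG2 (chevG2.hWord 8 (-1 : K))) 7 = -1 := by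
  have hx : ((wGL chevG2 Ree.hG2 (chevG2.hWord 8 (-1 : K)) : GL chevG2.Idx K) :
      Matrix chevG2.Idx chevG2.Idx K) = torus K chevG2 (fun s => (-1 : K) ^ W chevG2 8 s) := by
    rw [hm1_val, hMat_eq_torus chevG2 Ree.hG2 8 (by decide) (-1) (by simp)]
  rw [dEnt_torus chevG2 _ _ hx 7 (by decide), g2_W.1, _root_.zpow_neg_one, inv_neg, inv_one]

theorem dEnt_mul (x y : GL chevG2.Idx K) (hx : x ∈ chevG2.diagonalSubgroup K)
    (hy : y ∈ chevG2.diagonalSubgroup K) (r : ℕ) (hr : r < chevG2.nroots) :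
    dEnt chevG2 (x * y) r = dEnt chevG2 x r * dEnt chevG2 y r := by
  obtain ⟨d, -, hdx⟩ := diagonalSubgroup_le_gradedTorus chevG2 Ree.hG2 hx
  obtain ⟨d', -, hdy⟩ := diagonalSubgroup_le_gradedTorus chevG2 Ree.hG2 hy
  have hxy : ((x * y : GL chevG2.Idx K) : Matrix chevG2.Idx chevG2.Idx K) =
      torus K chevG2 (fun s => d s * d' s) := by
    rw [Units.val_mul, hdx, hdy, torus_mul_torus]
  rw [dEnt_torus chevG2 _ _ hxy r hr, dEnt_torus chevG2 _ _ hdx r hr, dEnt_torus chevG2 _ _ hdy r hr]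

/-- Every non-zero `μ` is the diagonal entry at the root `a` of an element of `H¹`. -/
theorem exists_H1 [Fintype K] [CharP K 3] (e : ℕ) (he : e ≠ 0)
    (hF : ∀ x : K, (x ^ e) ^ (3 * e) = x) (hcard : Fintype.card K % 4 = 3) (μ : K) (hμ : μ ≠ 0) :
    ∃ x ∈ chevG2.diagonalSubgroup K ⊓ twistedG2 K e, dEnt chevG2 x 7 = μ := by
  classical
  have hsq : ∀ s : K, s ≠ 0 → ∃ x ∈ chevG2.diagonalSubgroup K ⊓ twistedG2 K e,
      dEnt chevG2 x 7 = s * s := by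
    intro s hs
    have hy0 : s ^ (3 * e + 3) ≠ 0 := pow_ne_zero _ hs
    refine ⟨hy e (s ^ (3 * e + 3)), Subgroup.mem_inf.2 ⟨hy_diag e _ hy0, hy_mem e he _⟩, ?_⟩
    rw [hy_dEnt e _ hy0]
    have e1 : (s ^ (3 * e + 3)) ^ e = s * s ^ (3 * e) := by
      rw [← pow_mul]
      have e2 : (3 * e + 3) * e = e * (3 * e) + 3 * e := by ring
      rw [e2, pow_add, pow_mul, hF]
    rw [e1, pow_add]
    field_simp
  have hm1 : ¬ IsSquare (-1 : K) := by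
    rw [FiniteField.isSquare_neg_one_iff]
    exact fun h => h hcard
  by_cases h : IsSquare μ
  · obtain ⟨s, rfl⟩ := h
    exact hsq s (fun h0 => hμ (by rw [h0, mul_zero]))
  · have hχ : quadraticChar K (-μ) = 1 := by
      have e1 : (-μ) = (-1) * μ := by ring
      rw [e1, map_mul, quadraticChar_neg_one_iff_not_isSquare.2 hm1,
        quadraticChar_neg_one_iff_not_isSquare.2 h]
      norm_num
    obtain ⟨s, hs⟩ := (quadraticChar_one_iff_isSquare (neg_ne_zero.2 hμ)).1 hχ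
    have hs0 : s ≠ 0 := fun h0 => hμ (by rw [h0, mul_zero] at hs; exact neg_eq_zero.1 hs)
    obtain ⟨x, hx, hxd⟩ := hsq s hs0
    refine ⟨wGL chevG2 Ree.hG2 (chevG2.hWord 8 (-1 : K)) * x,
      Subgroup.mul_mem _ (Subgroup.mem_inf.2 ⟨hm1_diag, hm1_mem e he⟩) hx, ?_⟩
    rw [dEnt_mul _ _ hm1_diag (Subgroup.mem_inf.1 hx).1 7 (by decide), hm1_dEnt, hxd, ← hs]
    ring

/-- `|H¹| = q - 1`. -/
theorem card_H1 [Fintype K] (m : ℕ) (hK : Fintype.card K = 3 ^ (2 * m + 1)) :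
    Nat.card ↥(chevG2.diagonalSubgroup K ⊓ twistedG2 K (3 ^ m)) = 3 ^ (2 * m + 1) - 1 := by
  have : CharP K 3 := Ree.charP_three (by omega) hK
  obtain ⟨σ, hσ⟩ := Ree.exists_sig m hK
  obtain ⟨hF, hadd, hsub, hodd⟩ := Ree.field_facts m hK
  have he : (3 : ℕ) ^ m ≠ 0 := pow_ne_zero _ (by norm_num)
  have hcard : Fintype.card K % 4 = 3 := by
    rw [hK, pow_succ, pow_mul, Nat.mul_mod, Nat.pow_mod]
    norm_num
  have hne : ∀ x : ↥(chevG2.diagonalSubgroup K ⊓ twistedG2 K (3 ^ m)),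
      dEnt chevG2 (x : GL chevG2.Idx K) 7 ≠ 0 := by
    intro x
    obtain ⟨d, hd, hx⟩ := diagonalSubgroup_le_gradedTorus chevG2 Ree.hG2 (Subgroup.mem_inf.1 x.2).1
    rw [dEnt_torus chevG2 _ d hx 7 (by decide)]
    exact hd.ne_zero 7 (by decide)
  have hbij : Function.Bijective (fun x : ↥(chevG2.diagonalSubgroup K ⊓ twistedG2 K (3 ^ m)) =>
      Units.mk0 (dEnt chevG2 (x : GL chevG2.Idx K) 7) (hne x)) := by
    constructor
    · intro x y hxy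
      have h7 : dEnt chevG2 (x : GL chevG2.Idx K) 7 = dEnt chevG2 (y : GL chevG2.Idx K) 7 :=
        congrArg Units.val hxy
      exact Subtype.ext (Ree.H1_inj hσ hF hadd hodd _ _ (Subgroup.mem_inf.1 x.2).1
        (Subgroup.mem_inf.1 x.2).2 (Subgroup.mem_inf.1 y.2).1 (Subgroup.mem_inf.1 y.2).2 h7)
    · intro μ
      obtain ⟨x, hx, hxd⟩ := exists_H1 (3 ^ m) he hF hcard (μ : K) μ.ne_zero
      exact ⟨⟨x, hx⟩, Units.ext hxd⟩
  rw [Nat.card_congr (Equiv.ofBijective _ hbij), Nat.card_units, Nat.card_eq_fintype_card, hK]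

end Cfsg.Agent.Lib.Helper24.ReeH
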