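import Mathlib
import Cfsg.Agent.Lib.Helper27.ReeOdd
import Cfsg.Agent.Lib.Helper24.ChevBorel

/-!
# The small Ree groups `²G₂(3^(2m+1))`, `m ≥ 1`, are perfect

A non-trivial element `h` of odd order of `H¹` acts without fixed points on `U¹`, so that
`g ↦ [h, g]` is a bijection of `U¹`: every element of `U¹` is a commutator.
-/

set_option autoImplicit false
set_option maxHeartbeats 400000

namespace Cfsg.Agent.Lib.Helper24.ReeP

open Cfsg.Lie Cfsg.Agent.Lib.Helper24 Cfsg.Agent.Lib.Helper27 Matrix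
open scoped commutatorElement

/-- a fixed-point-free element normalising a finite subgroup: every element is a commutator -/
theorem comm_surj {G : Type*} [Group G] (U : Subgroup G) [Finite ↥U] (h : G)
    (hn : ∀ g ∈ U, h * g * h⁻¹ ∈ U) (hfix : U ⊓ Subgroup.centralizer {h} = ⊥) (g : G)
    (hg : g ∈ U) : ∃ g' ∈ U, g = ⁅h, g'⁆ := by
  let φ : ↥U → ↥U := fun x => ⟨⁅h, (x : G)⁆, by
    rw [commutatorElement_def]
    exact Subgroup.mul_mem _ (hn _ x.2) (Subgroup.inv_mem _ x.2)⟩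
  have hinj : Function.Injective φ := by
    intro x y hxy
    have e : ⁅h, (x : G)⁆ = ⁅h, (y : G)⁆ := congrArg Subtype.val hxy
    rw [commutatorElement_def, commutatorElement_def] at e
    have hc : (y : G)⁻¹ * x ∈ U ⊓ Subgroup.centralizer {h} := by
      refine Subgroup.mem_inf.2 ⟨Subgroup.mul_mem _ (Subgroup.inv_mem _ y.2) x.2, ?_⟩
      rw [Subgroup.mem_centralizer_iff]
      intro z hz
      rw [Set.mem_singleton_iff] at hz
      subst hz
      have e2 : (x : G) * z⁻¹ * (x : G)⁻¹ = y * z⁻¹ * (y : G)⁻¹ := by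
        have := congrArg (fun w => z⁻¹ * w) e
        simpa [mul_assoc] using this
      have e3 : (y : G)⁻¹ * x * z⁻¹ = z⁻¹ * ((y : G)⁻¹ * x) := by
        calc (y : G)⁻¹ * x * z⁻¹ = (y : G)⁻¹ * (x * z⁻¹ * (x : G)⁻¹) * x := by group
          _ = (y : G)⁻¹ * (y * z⁻¹ * (y : G)⁻¹) * x := by rw [e2]
          _ = z⁻¹ * ((y : G)⁻¹ * x) := by group
      calc z * ((y : G)⁻¹ * x) = z * ((y : G)⁻¹ * x * z⁻¹) * z := by group
        _ = z * (z⁻¹ * ((y : G)⁻¹ * x)) * z := by rw [e3]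
        _ = (y : G)⁻¹ * x * z := by group
    rw [hfix, Subgroup.mem_bot, inv_mul_eq_one] at hc
    exact Subtype.ext hc.symm
  obtain ⟨x, hx⟩ := (Finite.injective_iff_surjective.1 hinj) ⟨g, hg⟩
  exact ⟨x, x.2, (congrArg Subtype.val hx).symm⟩

variable {K : Type*} [Field K]

/-- `²G₂(3^(2m+1))` is perfect for `m ≥ 1`. -/
theorem twistedG2_perfect [Fintype K] {m : ℕ} (hK : Fintype.card K = 3 ^ (2 * m + 1))
    (hm : 1 ≤ m) : commutator ↥(twistedG2 K (3 ^ m)) = ⊤ := by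
  classical
  have : CharP K 3 := Ree.charP_three (by omega) hK
  obtain ⟨σ, hσ⟩ := Ree.exists_sig m hK
  obtain ⟨hF, hadd, hsub, hodd⟩ := Ree.field_facts m hK
  obtain ⟨hcount, hfix⟩ := Ree.H1_odd m hK
  have hex : ∃ h ∈ chevG2.diagonalSubgroup K ⊓ twistedG2 K (3 ^ m), h ≠ 1 ∧ Odd (orderOf h) := by
    by_contra hcon
    push Not at hcon
    have hsub1 : Subsingleton
        {h : ↥(chevG2.diagonalSubgroup K ⊓ twistedG2 K (3 ^ m)) // Odd (orderOf h)} := by
      have key : ∀ a : ↥(chevG2.diagonalSubgroup K ⊓ twistedG2 K (3 ^ m)), Odd (orderOf a) →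
          a = 1 := by
        intro a ha
        by_contra hne
        refine hcon (a : GL chevG2.Idx K) a.2 (fun h1 => hne (Subtype.ext h1)) ?_
        rw [Subgroup.orderOf_coe]
        exact ha
      constructor
      rintro ⟨a, ha⟩ ⟨b, hb⟩
      exact Subtype.ext ((key a ha).trans (key b hb).symm)
    have hle : Nat.card
        {h : ↥(chevG2.diagonalSubgroup K ⊓ twistedG2 K (3 ^ m)) // Odd (orderOf h)} ≤ 1 :=
      Finite.card_le_one_iff_subsingleton.2 hsub1
    have h27 : 3 ^ 3 ≤ 3 ^ (2 * m + 1) := Nat.pow_le_pow_right (by norm_num) (by omega)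
    generalize 3 ^ (2 * m + 1) = q at hcount h27
    omega
  obtain ⟨h, hh, h1, ho⟩ := hex
  have hHU : chevG2.diagonalSubgroup K ≤
      Subgroup.normalizer (chevG2.posUnipotent K : Set (GL chevG2.Idx K)) :=
    diagonal_le_normalizer_rootGen chevG2 Ree.hG2 chevG2.IsPosRoot (fun r hr => hr.1)
  have hU1 : chevG2.posUnipotent K ⊓ twistedG2 K (3 ^ m) ≤
      ⁅twistedG2 K (3 ^ m), twistedG2 K (3 ^ m)⁆ := by
    intro g hg
    obtain ⟨g', hg', rfl⟩ := comm_surj _ h (fun g hg => Subgroup.mem_inf.2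
      ⟨((Subgroup.mem_set_normalizer_iff.1 (hHU hh.1)) g).1 hg.1,
        Subgroup.mul_mem _ (Subgroup.mul_mem _ hh.2 hg.2) (Subgroup.inv_mem _ hh.2)⟩)
      (hfix h hh h1 ho) g hg
    exact Subgroup.commutator_mem_commutator hh.2 hg'.2
  have hCle : ⁅twistedG2 K (3 ^ m), twistedG2 K (3 ^ m)⁆ ≤ twistedG2 K (3 ^ m) := by
    rw [Subgroup.commutator_le]
    intro a ha b hb
    rw [commutatorElement_def]
    exact Subgroup.mul_mem _ (Subgroup.mul_mem _ (Subgroup.mul_mem _ ha hb)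
      (Subgroup.inv_mem _ ha)) (Subgroup.inv_mem _ hb)
  apply gen_perfect chevG2 Ree.hG2
  rintro w ⟨t, u, v, rfl | rfl⟩
  · exact hU1 ((Ree.U1_iff hσ hF hadd hodd hsub _).2 ⟨t, u, v, wGL_val _ _ _⟩)
  · rw [Ree.reeV_conj]
    have hx := hU1 ((Ree.U1_iff hσ hF hadd hodd hsub
      (wGL chevG2 Ree.hG2 (reeWordU (3 ^ m) t u v))).2 ⟨t, u, v, wGL_val _ _ _⟩)
    have hn0 := Ree.n0_mem (K := K) (3 ^ m) (pow_ne_zero _ (by norm_num))
    have e : Ree.n0 K * wGL chevG2 Ree.hG2 (reeWordU (3 ^ m) t u v) * (Ree.n0 K)⁻¹ =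
        ⁅Ree.n0 K, wGL chevG2 Ree.hG2 (reeWordU (3 ^ m) t u v)⁆ *
          wGL chevG2 Ree.hG2 (reeWordU (3 ^ m) t u v) := by
      rw [commutatorElement_def]
      group
    rw [e]
    exact Subgroup.mul_mem _ (Subgroup.commutator_mem_commutator hn0 (hCle hx)) hx

end Cfsg.Agent.Lib.Helper24.ReeP
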