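import Cfsg.Agent.Lib.Helper24.RkSigE
import Cfsg.Agent.Lib.Helper27.ReeSig

/-!
# The small Ree groups as twisted groups of rank one
-/

set_option autoImplicit false
set_option maxHeartbeats 400000

namespace Cfsg.Agent.Lib.Helper24

open Cfsg.Lie Matrix
open Cfsg.Agent.Lib.Helper25 (wPi wEta negSet uMinus)
open Cfsg.Agent.Lib.Helper27

variable {F : Type*} [Field F]

/-- Two endomorphisms of the Chevalley group agreeing on the root elements are equal. -/
theorem rk_hom_ext (D : ChevalleyDatum) (hD : D ∈ chevList) (φ ψ : ↥(D.group F) →* ↥(D.group F))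
    (h : ∀ r < D.nroots, ∀ t : F, φ (xG D hD r t) = ψ (xG D hD r t)) : φ = ψ := by
  have hle : D.group F ≤ (φ.eqLocus ψ).map (D.group F).subtype := by
    unfold ChevalleyDatum.group
    rw [Subgroup.closure_le]
    rintro g ⟨r, t, hg⟩
    refine ⟨xG D hD r.val t, h r.val r.2 t, ?_⟩
    apply Units.ext
    show D.x F r.val t = _
    rw [hg, x_eq_xMat D r.val r.2 t]
  apply MonoidHom.ext
  intro g
  obtain ⟨y, hy, e⟩ := hle g.2
  have e' : y = g := Subtype.ext e
  rw [← e']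
  exact hy

namespace ReeRk

variable {K : Type*} [Field K]

theorem rho_rho : ∀ r < chevG2.nroots, Ree.rho (Ree.rho r) = r := by decide +kernel

theorem lam_mul : ∀ r < chevG2.nroots, Ree.lam r * Ree.lam (Ree.rho r) = 3 := by decide +kernel

theorem lam_cases : ∀ r < chevG2.nroots, Ree.lam r = 1 ∨ Ree.lam r = 3 := by decide +kernel

theorem lam_neg : ∀ r < chevG2.nroots, Ree.lam (chevG2.neg r) = Ree.lam r := by decide +kernel

theorem rho_neg : ∀ r < chevG2.nroots, Ree.rho (chevG2.neg r) = chevG2.neg (Ree.rho r) := by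
  decide +kernel

theorem rho_pos : ∀ r < chevG2.nroots, chevG2.IsPosRoot r → chevG2.IsPosRoot (Ree.rho r) := by
  decide +kernel

theorem rho_negr : ∀ r < chevG2.nroots, chevG2.IsNegRoot r → chevG2.IsNegRoot (Ree.rho r) := by
  decide +kernel

theorem rho_simple : chevG2.simple 1 = Ree.rho (chevG2.simple 0) ∧
    chevG2.simple 0 = Ree.rho (chevG2.simple 1) := by decide +kernel

theorem w0_simple : ∀ i < chevG2.rank, wPi chevG2 [1, 0, 1, 0, 1, 0] (chevG2.simple i) =
    chevG2.neg (chevG2.simple i) := by decide +kernel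

theorem xG_eq (r : ℕ) (t : K) : Ree.xG r t = xG chevG2 Ree.hG2 r t := rfl

section

variable {e : ℕ} {σ : ↥(chevG2.group K) →* ↥(chevG2.group K)} (hσ : Ree.IsSig e σ)
  (hF : ∀ x : K, (x ^ e) ^ (3 * e) = x) (hodd : Odd e)
include hσ hF

theorem sig_sig (g : ↥(chevG2.group K)) : σ (σ g) = g := by
  have h : σ.comp σ = MonoidHom.id _ := by
    apply rk_hom_ext chevG2 Ree.hG2
    intro r hr t
    show σ (σ (Ree.xG r t)) = Ree.xG r t
    rw [hσ r hr t, hσ _ (Ree.rho_lt r hr), rho_rho r hr, ← pow_mul]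
    have e1 : Ree.lam r * e * (Ree.lam (Ree.rho r) * e) = e * (3 * e) := by
      rw [← lam_mul r hr]
      ring
    rw [e1, pow_mul, hF]
  exact congrArg (fun φ : ↥(chevG2.group K) →* ↥(chevG2.group K) => φ g) h

include hodd

/-- The Ree endomorphism as an abstract twisting endomorphism. -/
noncomputable def reeSig : ASig K chevG2 Ree.hG2 where
  sig := σ
  π := Ree.rho
  c := fun s t => t ^ (Ree.lam s * e)
  hπ := Ree.rho_lt
  hx := by
    intro s hs t g hg
    have e1 : g = Ree.xG s t := Subtype.ext hg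
    rw [e1, hσ s hs t]
    rfl
  hinj := by
    intro a b hab
    rw [← sig_sig hσ hF a, ← sig_sig hσ hF b, hab]
  hsurj := by
    intro s hs y
    rcases lam_cases s hs with h | h
    · refine ⟨y ^ (3 * e), ?_⟩
      show (y ^ (3 * e)) ^ (Ree.lam s * e) = y
      rw [h, one_mul, ← pow_mul, mul_comm, pow_mul, hF]
    · refine ⟨y ^ e, ?_⟩
      show (y ^ e) ^ (Ree.lam s * e) = y
      rw [h, hF]
  hc0 := fun s _ t ht => pow_ne_zero _ ht
  hc1 := fun s _ => one_pow _
  hcm1 := by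
    intro s hs
    have ho : Odd (Ree.lam s * e) := by
      rcases lam_cases s hs with h | h <;> rw [h]
      · rw [one_mul]; exact hodd
      · exact Odd.mul (by decide) hodd
    exact ho.neg_one_pow
  hcneg := by
    intro s hs t _
    have ho : Odd (Ree.lam s * e) := by
      rcases lam_cases s hs with h | h <;> rw [h]
      · rw [one_mul]; exact hodd
      · exact Odd.mul (by decide) hodd
    show (-t⁻¹) ^ (Ree.lam (chevG2.neg s) * e) = -(t ^ (Ree.lam s * e))⁻¹
    rw [lam_neg s hs, ho.neg_pow, inv_pow]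
  hpos := fun r hr => rho_pos r hr.1 hr
  hneg := fun r hr => rho_negr r hr.1 hr
  hπneg := rho_neg

theorem reeSig_sig : (reeSig hσ hF hodd).sig = σ := rfl

theorem reeSig_pi : (reeSig hσ hF hodd).π = Ree.rho := rfl

end

section

variable [CharP K 3] {e : ℕ} {σ : ↥(chevG2.group K) →* ↥(chevG2.group K)} (hσ : Ree.IsSig e σ)
  (hF : ∀ x : K, (x ^ e) ^ (3 * e) = x) (hadd : ∀ x y : K, (x + y) ^ e = x ^ e + y ^ e)
  (hsub : ∀ x y : K, (x - y) ^ e = x ^ e - y ^ e) (hodd : Odd e)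
include hσ hF hadd hsub hodd

/-- A fixed element of `U` lies in `²G₂`. -/
theorem fixed_U_mem (u : ↥(chevG2.group K)) (hU : (u : GL chevG2.Idx K) ∈ chevG2.posUnipotent K)
    (hfix : σ u = u) : (u : GL chevG2.Idx K) ∈ twistedG2 K e := by
  obtain ⟨a, b, c, d, e', f, hg⟩ := Ree.posU_nf (u : GL chevG2.Idx K) hU
  have hh' : u = Ree.u6G a b c d e' f := Subtype.ext hg
  rw [hh', Ree.sig_u6 hσ] at hfix
  obtain ⟨i1, i2, i3, i4, -, -⟩ := Ree.u6_inj _ _ _ _ _ _ _ _ _ _ _ _
    (congrArg (fun x : ↥(chevG2.group K) => (x : GL chevG2.Idx K)) hfix)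
  have hb : b = a ^ e := i2.symm
  have hc : c = (e' - (a ^ e) ^ 3 * a) ^ e := by
    rw [hsub, mul_pow, ← pow_mul, hF, ← i3, i1]; ring
  have hd : d = (f - (a ^ e) ^ 3 * a ^ 2) ^ e := by
    rw [hsub, mul_pow, ← pow_mul (a ^ e) 3 e, hF, ← pow_mul, mul_comm 2 e, pow_mul, ← i4, i1]
    ring
  have e2 : (u : GL chevG2.Idx K) = wGL chevG2 Ree.hG2
      (reeWordU e a (e' - (a ^ e) ^ 3 * a) (f - (a ^ e) ^ 3 * a ^ 2)) := by
    rw [hg, Ree.reeU_nf, Ree.u6_congr (rfl : a = a) hb hc hd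
      (by ring : e' = e' - (a ^ e) ^ 3 * a + (a ^ e) ^ 3 * a)
      (by ring : f = f - (a ^ e) ^ 3 * a ^ 2 + (a ^ e) ^ 3 * a ^ 2)]
  rw [e2]
  exact Ree.reeU_mem e _ _ _

/-- The small Ree group as a twisted group of rank one. -/
noncomputable def reeRk : Rk1 K chevG2 Ree.hG2 where
  A := reeSig hσ hF hodd
  G1 := twistedG2 K e
  n₀ := Ree.n0 K
  L₀ := [0, 1, 0, 1, 0, 1]
  hrk := by rw [Ree.g2_rank]; norm_num
  htr := by
    intro i hi j hj
    rw [Ree.g2_rank] at hi hj
    have hi' : i = 0 ∨ i = 1 := by omega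
    have hj' : j = 0 ∨ j = 1 := by omega
    rcases hi' with rfl | rfl <;> rcases hj' with rfl | rfl
    · exact ⟨0, rfl⟩
    · exact ⟨1, rho_simple.1⟩
    · exact ⟨1, rho_simple.2⟩
    · exact ⟨0, rfl⟩
  hL₀ := by
    intro i hi
    rw [Ree.g2_rank]
    simp only [List.mem_cons, List.not_mem_nil, or_false] at hi
    omega
  hw₀ := fun i hi => ⟨i, hi, w0_simple i hi⟩
  hn₀N := Ree.n0_mono
  hconj := Ree.n0_conj_pos
  hG1le := by
    intro g hg
    obtain ⟨h, hh, -⟩ := Ree.twistedG2_fixed hσ hF hadd hodd g hg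
    rw [← hh]
    exact h.2
  hG1fix := by
    intro g hg
    obtain ⟨h, hh, hfix⟩ := Ree.twistedG2_fixed hσ hF hadd hodd _ hg
    have e1 : h = g := Subtype.ext hh
    rw [e1] at hfix
    exact hfix
  hUfix := fun u hU hfix => fixed_U_mem hσ hF hadd hsub hodd u hU hfix
  hn₀G := Ree.n0_mem e (fun h => by rw [h] at hodd; exact absurd hodd (by decide))

theorem reeRk_G1 : (reeRk hσ hF hadd hsub hodd).G1 = twistedG2 K e := rfl

theorem reeRk_n0 : (reeRk hσ hF hadd hsub hodd).n₀ = Ree.n0 K := rfl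

end

end ReeRk

end Cfsg.Agent.Lib.Helper24
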