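import Cfsg.Agent.Lib.Helper24.TwC

/-!
# Abstract twisting endomorphisms of a Chevalley group

An endomorphism `σ` of the Chevalley group permuting the root elements,
`σ (x_r(t)) = x_{π r}(c_r t)`, need not come from a linear map of the adjoint module (the
exceptional graph automorphisms of `G₂`, `F₄` in characteristic `3`, `2` do not).  This file
proves, for such a `σ`, that it preserves `U`, `V`, `H`, `N`, `B`, and that the factors of the
Bruhat normal form of a fixed element are fixed.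
-/

set_option autoImplicit false

namespace Cfsg.Agent.Lib.Helper24

open Cfsg.Lie Matrix
open Cfsg.Agent.Lib.Helper25 (wPi wEta negSet uMinus)

variable {F : Type*} [Field F]

/-- An abstract twisting endomorphism of the Chevalley group of `D`. -/
structure ASig (F : Type*) [Field F] (D : ChevalleyDatum) (hD : D ∈ chevList) where
  sig : ↥(D.group F) →* ↥(D.group F)
  π : ℕ → ℕ
  c : ℕ → F → F
  hπ : ∀ s < D.nroots, π s < D.nroots
  hx : ∀ s < D.nroots, ∀ (t : F) (g : ↥(D.group F)), (g : GL D.Idx F) = xGL D hD s t →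
    (sig g : GL D.Idx F) = xGL D hD (π s) (c s t)
  hinj : Function.Injective sig
  hsurj : ∀ s < D.nroots, Function.Surjective (c s)
  hc0 : ∀ s < D.nroots, ∀ t : F, t ≠ 0 → c s t ≠ 0
  hc1 : ∀ s < D.nroots, c s 1 = 1
  hcm1 : ∀ s < D.nroots, c s (-1) = -1
  hcneg : ∀ s < D.nroots, ∀ t : F, t ≠ 0 → c (D.neg s) (-t⁻¹) = -(c s t)⁻¹
  hpos : ∀ r, D.IsPosRoot r → D.IsPosRoot (π r)
  hneg : ∀ r, D.IsNegRoot r → D.IsNegRoot (π r)
  hπneg : ∀ r < D.nroots, π (D.neg r) = D.neg (π r)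

theorem rk_closure_map {G : Type*} [Group G] (L : Subgroup G) (φ : L →* L) (s : Set G)
    (K : Subgroup G) (hs : s ⊆ (L : Set G)) (h : ∀ g : L, (g : G) ∈ s → (φ g : G) ∈ K) :
    ∀ u : L, (u : G) ∈ Subgroup.closure s → (φ u : G) ∈ K := by
  intro u hu
  have hle : Subgroup.closure s ≤ ((K.subgroupOf L).comap φ).map L.subtype := by
    rw [Subgroup.closure_le]
    intro a ha
    exact ⟨⟨a, hs ha⟩, h ⟨a, hs ha⟩ ha, rfl⟩
  obtain ⟨y, hy, e⟩ := hle hu
  have e' : y = u := Subtype.ext e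
  rw [← e']
  exact hy

theorem rk_sup_map {G : Type*} [Group G] (L : Subgroup G) (φ : L →* L) (A B K : Subgroup G)
    (hAL : A ≤ L) (hBL : B ≤ L) (hA : ∀ g : L, (g : G) ∈ A → (φ g : G) ∈ K)
    (hB : ∀ g : L, (g : G) ∈ B → (φ g : G) ∈ K) :
    ∀ u : L, (u : G) ∈ A ⊔ B → (φ u : G) ∈ K := by
  intro u hu
  have hle : A ⊔ B ≤ ((K.subgroupOf L).comap φ).map L.subtype := by
    apply sup_le
    · intro a ha
      exact ⟨⟨a, hAL ha⟩, hA ⟨a, hAL ha⟩ ha, rfl⟩
    · intro b hb
      exact ⟨⟨b, hBL hb⟩, hB ⟨b, hBL hb⟩ hb, rfl⟩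
  obtain ⟨y, hy, e⟩ := hle hu
  have e' : y = u := Subtype.ext e
  rw [← e']
  exact hy

theorem rk_wGL_mem_group (D : ChevalleyDatum) (hD : D ∈ chevList) (w : List (ℕ × F)) :
    wGL D hD w ∈ D.group F := by
  induction w with
  | nil => exact Subgroup.one_mem _
  | cons p w ih =>
    rw [wGL_cons]
    exact Subgroup.mul_mem _ (xGL_mem_group D hD p.1 p.2) ih

/-- `x_r(t)` as an element of the Chevalley group. -/
def xG (D : ChevalleyDatum) (hD : D ∈ chevList) (r : ℕ) (t : F) : ↥(D.group F) :=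
  ⟨xGL D hD r t, xGL_mem_group D hD r t⟩

/-- The product of a word of root elements, as an element of the Chevalley group. -/
def wG (D : ChevalleyDatum) (hD : D ∈ chevList) (w : List (ℕ × F)) : ↥(D.group F) :=
  ⟨wGL D hD w, rk_wGL_mem_group D hD w⟩

theorem rk_eq_xGL (D : ChevalleyDatum) (hD : D ∈ chevList) (x : GL D.Idx F) (r : ℕ)
    (t : F) (hx : (x : Matrix D.Idx D.Idx F) = D.x F r t) : x = xGL D hD r t :=
  Units.ext (by rw [hx, xGL_val])

theorem rk_eq_wGL (D : ChevalleyDatum) (hD : D ∈ chevList) (x : GL D.Idx F)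
    (w : List (ℕ × F)) (hx : (x : Matrix D.Idx D.Idx F) = D.wordMat F w) : x = wGL D hD w :=
  Units.ext (by rw [hx, wGL_val])

theorem rk_uNeg_le (D : ChevalleyDatum) (n : GL D.Idx F) : uNeg D n ≤ D.posUnipotent F := by
  unfold uNeg ChevalleyDatum.posUnipotent
  apply Subgroup.closure_mono
  rintro x ⟨r, t, hr, -, hx⟩
  exact ⟨r, t, hr, hx⟩

namespace ASig

variable {D : ChevalleyDatum} {hD : D ∈ chevList} (A : ASig F D hD)

theorem sig_xG (s : ℕ) (hs : s < D.nroots) (t : F) :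
    (A.sig (xG D hD s t) : GL D.Idx F) = xGL D hD (A.π s) (A.c s t) :=
  A.hx s hs t _ rfl

theorem sig_wG (w : List (ℕ × F)) (hw : ∀ p ∈ w, p.1 < D.nroots) :
    (A.sig (wG D hD w) : GL D.Idx F) = wGL D hD (w.map fun p => (A.π p.1, A.c p.1 p.2)) := by
  induction w with
  | nil =>
    have e : wG (F := F) D hD [] = 1 := Subtype.ext (wGL_nil D hD)
    rw [e, map_one, List.map_nil, wGL_nil]
    rfl
  | cons p w ih =>
    have e : wG D hD (p :: w) = xG D hD p.1 p.2 * wG D hD w := Subtype.ext (wGL_cons D hD p w)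
    rw [e, map_mul, Subgroup.coe_mul, A.sig_xG p.1 (hw p List.mem_cons_self),
      ih (fun p' hp' => hw p' (List.mem_cons_of_mem _ hp')), List.map_cons, wGL_cons]

/-- The image of `n_r(c)`. -/
theorem sig_nWord (r : ℕ) (hr : r < D.nroots) (c : F) (hc : c ≠ 0) :
    (A.sig (wG D hD (D.nWord r c)) : GL D.Idx F) = wGL D hD (D.nWord (A.π r) (A.c r c)) := by
  have hn : D.neg r < D.nroots := neg_lt_of_preChk D (preChk_of_mem D hD) r hr
  rw [A.sig_wG]
  · unfold ChevalleyDatum.nWord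
    simp only [List.map_cons, List.map_nil, A.hπneg r hr, A.hcneg r hr c hc]
  · intro p hp
    unfold ChevalleyDatum.nWord at hp
    simp only [List.mem_cons, List.not_mem_nil, or_false] at hp
    rcases hp with h | h | h <;> rw [h] <;> assumption

theorem rk_nW_neg_mul (r : ℕ) (hr : r < D.nroots) :
    wGL (F := F) D hD (D.nWord r (-1)) * wGL D hD (D.nWord r 1) = 1 := by
  apply Units.ext
  rw [Units.val_mul, wGL_val, wGL_val, Units.val_one]
  exact nMat_neg_one_mul_nMat_one D hD r hr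

theorem rk_hW_mem (r : ℕ) (hr : r < D.nroots) (t : F) (ht : t ≠ 0) :
    wGL D hD (D.nWord r t) * wGL D hD (D.nWord r (-1)) ∈ D.diagonalSubgroup F := by
  unfold ChevalleyDatum.diagonalSubgroup
  apply Subgroup.subset_closure
  refine ⟨r, t, hr, ht, ?_⟩
  rw [Units.val_mul, wGL_val, wGL_val, hMat_eq_nMat_mul]
  rfl

theorem sig_hW (r : ℕ) (hr : r < D.nroots) (t : F) (ht : t ≠ 0) :
    (A.sig (wG D hD (D.nWord r t) * wG D hD (D.nWord r (-1))) : GL D.Idx F) ∈
      D.diagonalSubgroup F := by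
  rw [map_mul, Subgroup.coe_mul, A.sig_nWord r hr t ht, A.sig_nWord r hr (-1) (by simp),
    A.hcm1 r hr]
  exact rk_hW_mem (A.π r) (A.hπ r hr) _ (A.hc0 r hr t ht)

theorem sig_pos_mem (u : ↥(D.group F)) (hu : (u : GL D.Idx F) ∈ D.posUnipotent F) :
    (A.sig u : GL D.Idx F) ∈ D.posUnipotent F := by
  have hle := posUnipotent_le_group (F := F) D hD
  unfold ChevalleyDatum.posUnipotent at hu hle ⊢
  refine rk_closure_map (D.group F) A.sig _ _ (fun x hx => hle (Subgroup.subset_closure hx))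
    ?_ u hu
  rintro x ⟨r, t, hr, hx⟩
  rw [A.hx r hr.1 t x (rk_eq_xGL D hD _ r t hx)]
  exact Subgroup.subset_closure ⟨A.π r, _, A.hpos r hr, xGL_val D hD _ _⟩

theorem sig_neg_mem (v : ↥(D.group F)) (hv : (v : GL D.Idx F) ∈ D.negUnipotent F) :
    (A.sig v : GL D.Idx F) ∈ D.negUnipotent F := by
  have hle := negUnipotent_le_group (F := F) D hD
  unfold ChevalleyDatum.negUnipotent at hv hle ⊢
  refine rk_closure_map (D.group F) A.sig _ _ (fun x hx => hle (Subgroup.subset_closure hx))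
    ?_ v hv
  rintro x ⟨r, t, hr, hx⟩
  rw [A.hx r hr.1 t x (rk_eq_xGL D hD _ r t hx)]
  exact Subgroup.subset_closure ⟨A.π r, _, A.hneg r hr, xGL_val D hD _ _⟩

theorem sig_diag_mem (h : ↥(D.group F)) (hh : (h : GL D.Idx F) ∈ D.diagonalSubgroup F) :
    (A.sig h : GL D.Idx F) ∈ D.diagonalSubgroup F := by
  have hle := diagonalSubgroup_le_group (F := F) D hD
  have key : ∀ g : ↥(D.group F), (g : GL D.Idx F) ∈ {g : GL D.Idx F | ∃ (r : ℕ) (t : F),
      r < D.nroots ∧ t ≠ 0 ∧ (g : Matrix D.Idx D.Idx F) = D.hMat F r t} →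
      (A.sig g : GL D.Idx F) ∈ D.diagonalSubgroup F := by
    rintro x ⟨r, t, hr, ht, hx⟩
    have ex : x = wG D hD (D.nWord r t) * wG D hD (D.nWord r (-1)) := by
      apply Subtype.ext
      apply Units.ext
      rw [hx, Subgroup.coe_mul, Units.val_mul]
      show _ = ((wGL D hD (D.nWord r t) : GL D.Idx F) : Matrix D.Idx D.Idx F) *
        ((wGL D hD (D.nWord r (-1)) : GL D.Idx F) : Matrix D.Idx D.Idx F)
      rw [wGL_val, wGL_val, hMat_eq_nMat_mul]
      rfl
    rw [ex]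
    exact A.sig_hW r hr t ht
  unfold ChevalleyDatum.diagonalSubgroup at hh hle
  exact rk_closure_map (D.group F) A.sig _ _ (fun x hx => hle (Subgroup.subset_closure hx))
    key h hh

theorem sig_mono_mem (n : ↥(D.group F)) (hn : (n : GL D.Idx F) ∈ D.monomialSubgroup F) :
    (A.sig n : GL D.Idx F) ∈ D.monomialSubgroup F := by
  have hleN := monomialSubgroup_le_group (F := F) D hD
  have hH : D.diagonalSubgroup F ≤ D.monomialSubgroup F := by
    unfold ChevalleyDatum.monomialSubgroup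
    exact le_sup_left
  have hgen : ∀ r < D.nroots, wGL (F := F) D hD (D.nWord r 1) ∈ D.monomialSubgroup F := by
    intro r hr
    unfold ChevalleyDatum.monomialSubgroup
    exact (le_sup_right : _ ≤ D.diagonalSubgroup F ⊔ _)
      (Subgroup.subset_closure ⟨r, hr, by rw [wGL_val]; rfl⟩)
  have hsub : {g : GL D.Idx F | ∃ r : ℕ, r < D.nroots ∧
      (g : Matrix D.Idx D.Idx F) = D.nMat F r 1} ⊆ (D.group F : Set (GL D.Idx F)) := by
    rintro x ⟨r, hr, hx⟩
    have ex : x = wGL D hD (D.nWord r 1) := rk_eq_wGL D hD x _ hx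
    rw [ex]
    exact rk_wGL_mem_group D hD _
  have key : ∀ g : ↥(D.group F), (g : GL D.Idx F) ∈ {g : GL D.Idx F | ∃ r : ℕ, r < D.nroots ∧
      (g : Matrix D.Idx D.Idx F) = D.nMat F r 1} →
      (A.sig g : GL D.Idx F) ∈ D.monomialSubgroup F := by
    rintro x ⟨r, hr, hx⟩
    have ex : x = wG D hD (D.nWord r 1) := Subtype.ext (rk_eq_wGL D hD _ _ hx)
    rw [ex, A.sig_nWord r hr 1 one_ne_zero, A.hc1 r hr]
    exact hgen _ (A.hπ r hr)
  unfold ChevalleyDatum.monomialSubgroup at hn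
  exact rk_sup_map (D.group F) A.sig _ _ _ (diagonalSubgroup_le_group D hD)
    ((Subgroup.closure_le _).2 hsub) (fun g hg => hH (A.sig_diag_mem g hg))
    (rk_closure_map (D.group F) A.sig _ _ hsub key) n hn

theorem sig_borel_mem (b : ↥(D.group F)) (hb : (b : GL D.Idx F) ∈ D.borelSubgroup F) :
    (A.sig b : GL D.Idx F) ∈ D.borelSubgroup F := by
  unfold ChevalleyDatum.borelSubgroup at hb ⊢
  exact rk_sup_map (D.group F) A.sig _ _ _ (posUnipotent_le_group D hD)
    (diagonalSubgroup_le_group D hD)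
    (fun g hg => (le_sup_left : D.posUnipotent F ≤ _) (A.sig_pos_mem g hg))
    (fun g hg => (le_sup_right : D.diagonalSubgroup F ≤ _) (A.sig_diag_mem g hg)) b hb

theorem sig_uNeg_mem (n u : ↥(D.group F)) (hu : (u : GL D.Idx F) ∈ uNeg D (n : GL D.Idx F)) :
    (A.sig u : GL D.Idx F) ∈ uNeg D (A.sig n : GL D.Idx F) := by
  have hle : uNeg D (n : GL D.Idx F) ≤ D.group F :=
    (rk_uNeg_le D _).trans (posUnipotent_le_group D hD)
  unfold uNeg at hu hle
  refine rk_closure_map (D.group F) A.sig _ _ (fun x hx => hle (Subgroup.subset_closure hx))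
    ?_ u hu
  rintro x ⟨r, t, hr, hle', hx⟩
  have hπr := A.hπ r hr.1
  rw [A.hx r hr.1 t x (rk_eq_xGL D hD _ r t hx)]
  unfold uNeg
  apply Subgroup.subset_closure
  refine ⟨A.π r, _, A.hpos r hr, ?_, xGL_val D hD _ _⟩
  rw [Subgroup.map_le_iff_le_comap]
  intro y hy
  obtain ⟨s, hs⟩ := Cfsg.Agent.Lib.Helper25.mem_rootSubgroup D hD (A.π r) hπr y hy
  obtain ⟨t', ht'⟩ := A.hsurj r hr.1 s
  have ey : y = (A.sig (xG D hD r t') : GL D.Idx F) := by
    rw [A.sig_xG r hr.1, ht']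
    exact rk_eq_xGL D hD y _ s hs
  have hmem : (n : GL D.Idx F) * xGL D hD r t' * (n : GL D.Idx F)⁻¹ ∈ D.negUnipotent F := by
    apply hle'
    exact Subgroup.mem_map.2
      ⟨xGL D hD r t', mem_rootSubgroup_of_val D r _ t' (xGL_val D hD r t'), rfl⟩
  have h2 := A.sig_neg_mem (n * xG D hD r t' * n⁻¹) hmem
  rw [map_mul, map_mul, map_inv] at h2
  show (A.sig n : GL D.Idx F) * y * (A.sig n : GL D.Idx F)⁻¹ ∈ D.negUnipotent F
  rw [ey]
  exact h2

end ASig

end Cfsg.Agent.Lib.Helper24
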