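import Cfsg.Agent.Lib.Helper24.RkSig

/-!
# The normal form of an element fixed by an abstract twisting endomorphism
-/

set_option autoImplicit false

namespace Cfsg.Agent.Lib.Helper24

open Cfsg.Lie Matrix
open Cfsg.Agent.Lib.Helper25 (wPi wEta negSet uMinus)

variable {F : Type*} [Field F]

theorem rk_rootSub_eq (D : ChevalleyDatum) (r : ℕ) :
    D.rootSubgroup F r = rootGen F D (fun s => s = r) := by
  unfold ChevalleyDatum.rootSubgroup rootGen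
  congr 1
  ext g
  constructor
  · rintro ⟨t, ht⟩
    exact ⟨r, t, rfl, ht⟩
  · rintro ⟨s, t, rfl, ht⟩
    exact ⟨t, ht⟩

theorem rk_conj_rootSub (D : ChevalleyDatum) (hD : D ∈ chevList) (h : GL D.Idx F)
    (hh : h ∈ D.diagonalSubgroup F) (r : ℕ) (hr : r < D.nroots) (y : GL D.Idx F) :
    y ∈ D.rootSubgroup F r ↔ h * y * h⁻¹ ∈ D.rootSubgroup F r := by
  rw [rk_rootSub_eq]
  exact (Subgroup.mem_set_normalizer_iff.1
    (diagonal_le_normalizer_rootGen D hD _ (fun s hs => by rw [hs]; exact hr) hh)) y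

theorem rk_map_le_iff {G : Type*} [Group G] (n : G) (K V : Subgroup G) :
    K.map (MulAut.conj n).toMonoidHom ≤ V ↔ ∀ y ∈ K, n * y * n⁻¹ ∈ V := by
  constructor
  · intro h y hy
    exact h (Subgroup.mem_map_of_mem _ hy)
  · rintro h _ ⟨y, hy, rfl⟩
    exact h y hy

theorem rk_uNeg_mul_right (D : ChevalleyDatum) (hD : D ∈ chevList) (n h : GL D.Idx F)
    (hh : h ∈ D.diagonalSubgroup F) : uNeg D (n * h) = uNeg D n := by
  unfold uNeg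
  congr 1
  ext x
  constructor
  · rintro ⟨r, t, hr, hc, hx⟩
    refine ⟨r, t, hr, ?_, hx⟩
    rw [rk_map_le_iff] at hc ⊢
    intro y hy
    have hy' : h⁻¹ * y * h⁻¹⁻¹ ∈ D.rootSubgroup F r :=
      (rk_conj_rootSub D hD h⁻¹ (inv_mem hh) r hr.1 y).1 hy
    have h1 := hc _ hy'
    have e : n * h * (h⁻¹ * y * h⁻¹⁻¹) * (n * h)⁻¹ = n * y * n⁻¹ := by group
    rwa [e] at h1
  · rintro ⟨r, t, hr, hc, hx⟩
    refine ⟨r, t, hr, ?_, hx⟩
    rw [rk_map_le_iff] at hc ⊢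
    intro y hy
    have hy' : h * y * h⁻¹ ∈ D.rootSubgroup F r :=
      (rk_conj_rootSub D hD h hh r hr.1 y).1 hy
    have h1 := hc _ hy'
    have e : n * (h * y * h⁻¹) * n⁻¹ = n * h * y * (n * h)⁻¹ := by group
    rwa [e] at h1

theorem rk_uNeg_mul_left (D : ChevalleyDatum) (hD : D ∈ chevList) (n h : GL D.Idx F)
    (hh : h ∈ D.diagonalSubgroup F) : uNeg D (h * n) = uNeg D n := by
  have hV : h ∈ Subgroup.normalizer (D.negUnipotent F : Set (GL D.Idx F)) :=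
    diagonal_le_normalizer_rootGen D hD D.IsNegRoot (fun r hr => hr.1) hh
  unfold uNeg
  congr 1
  ext x
  constructor
  · rintro ⟨r, t, hr, hc, hx⟩
    refine ⟨r, t, hr, ?_, hx⟩
    rw [rk_map_le_iff] at hc ⊢
    intro y hy
    have h1 := hc y hy
    have e : h * n * y * (h * n)⁻¹ = h * (n * y * n⁻¹) * h⁻¹ := by group
    rw [e] at h1
    exact ((Subgroup.mem_set_normalizer_iff.1 hV) _).2 h1
  · rintro ⟨r, t, hr, hc, hx⟩
    refine ⟨r, t, hr, ?_, hx⟩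
    rw [rk_map_le_iff] at hc ⊢
    intro y hy
    have h1 := ((Subgroup.mem_set_normalizer_iff.1 hV) _).1 (hc y hy)
    have e : h * (n * y * n⁻¹) * h⁻¹ = h * n * y * (h * n)⁻¹ := by group
    rwa [e] at h1

namespace ASig

variable {D : ChevalleyDatum} {hD : D ∈ chevList} (A : ASig F D hD)

/-- The factors of the normal form of a fixed element are fixed. -/
theorem fixed_bruhat (g : ↥(D.group F)) (hfix : A.sig g = g) :
    ∃ u₁ m u : ↥(D.group F), (u₁ : GL D.Idx F) ∈ D.posUnipotent F ∧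
      (m : GL D.Idx F) ∈ D.monomialSubgroup F ∧ (u : GL D.Idx F) ∈ uNeg D (m : GL D.Idx F) ∧
      A.sig u₁ = u₁ ∧ A.sig m = m ∧ A.sig u = u ∧ g = u₁ * m * u := by
  have hHB : D.diagonalSubgroup F ≤ D.borelSubgroup F := le_sup_right
  have hUB : D.posUnipotent F ≤ D.borelSubgroup F := le_sup_left
  have hHN : D.diagonalSubgroup F ≤ D.monomialSubgroup F := by
    unfold ChevalleyDatum.monomialSubgroup
    exact le_sup_left
  have hBG := borelSubgroup_le_group (F := F) D hD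
  have hNG := monomialSubgroup_le_group (F := F) D hD
  have hUG := posUnipotent_le_group (F := F) D hD
  have hHG := diagonalSubgroup_le_group (F := F) D hD
  obtain ⟨b, hb, n, hn, u, hu, e⟩ :=
    Cfsg.Agent.Lib.Helper25.bruhat_exists D hD (g : GL D.Idx F) g.2
  have hu' : u ∈ uNeg D n := hu
  have huG : u ∈ D.group F := hUG (rk_uNeg_le D n hu')
  -- the factors as elements of the group
  have eG : g = (⟨b, hBG hb⟩ : ↥(D.group F)) * ⟨n, hNG hn⟩ * ⟨u, huG⟩ := Subtype.ext e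
  -- apply the twisting endomorphism
  have e2 : b * n * u = (A.sig ⟨b, hBG hb⟩ : GL D.Idx F) * (A.sig ⟨n, hNG hn⟩ : GL D.Idx F) *
      (A.sig ⟨u, huG⟩ : GL D.Idx F) := by
    have h1 := congrArg (fun x : ↥(D.group F) => (A.sig x : GL D.Idx F)) eG
    simp only [map_mul, Subgroup.coe_mul, hfix] at h1
    rw [← h1, e]
  have hσu : (A.sig ⟨u, huG⟩ : GL D.Idx F) ∈ uNeg D (A.sig ⟨n, hNG hn⟩ : GL D.Idx F) :=
    A.sig_uNeg_mem ⟨n, hNG hn⟩ ⟨u, huG⟩ hu'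
  obtain ⟨hh0, -⟩ := Cfsg.Agent.Lib.Helper25.bruhat_unique D hD b (A.sig ⟨b, hBG hb⟩ : GL D.Idx F)
    n (A.sig ⟨n, hNG hn⟩ : GL D.Idx F) u (A.sig ⟨u, huG⟩ : GL D.Idx F) hb
    (A.sig_borel_mem _ hb) hn (A.sig_mono_mem _ hn) hu hσu e2
  have hσn : (A.sig ⟨n, hNG hn⟩ : GL D.Idx F) =
      n * (n⁻¹ * (A.sig ⟨n, hNG hn⟩ : GL D.Idx F)) := by group
  have hσu' : (A.sig ⟨u, huG⟩ : GL D.Idx F) ∈ uNeg D n := by
    rw [hσn, rk_uNeg_mul_right D hD n _ hh0] at hσu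
    exact hσu
  have hnhn : n * (n⁻¹ * (A.sig ⟨n, hNG hn⟩ : GL D.Idx F)) * n⁻¹ ∈ D.diagonalSubgroup F :=
    ((Subgroup.mem_set_normalizer_iff.1 (monomial_le_normalizer_diagonal D hD hn)) _).1 hh0
  have e3 : b * n * u = ((A.sig ⟨b, hBG hb⟩ : GL D.Idx F) *
      (n * (n⁻¹ * (A.sig ⟨n, hNG hn⟩ : GL D.Idx F)) * n⁻¹)) * n *
        (A.sig ⟨u, huG⟩ : GL D.Idx F) := by
    rw [e2]
    group
  obtain ⟨-, huniq⟩ := Cfsg.Agent.Lib.Helper25.bruhat_unique D hD b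
    ((A.sig ⟨b, hBG hb⟩ : GL D.Idx F) * (n * (n⁻¹ * (A.sig ⟨n, hNG hn⟩ : GL D.Idx F)) * n⁻¹))
    n n u (A.sig ⟨u, huG⟩ : GL D.Idx F) hb
    (mul_mem (A.sig_borel_mem _ hb) (hHB hnhn)) hn hn hu hσu' e3
  obtain ⟨-, hufix⟩ := huniq rfl
  have hufix' : A.sig ⟨u, huG⟩ = ⟨u, huG⟩ := Subtype.ext hufix.symm
  have hbn : A.sig ((⟨b, hBG hb⟩ : ↥(D.group F)) * ⟨n, hNG hn⟩) =
      (⟨b, hBG hb⟩ : ↥(D.group F)) * ⟨n, hNG hn⟩ := by
    have e' : (⟨b, hBG hb⟩ : ↥(D.group F)) * ⟨n, hNG hn⟩ = g * (⟨u, huG⟩ : ↥(D.group F))⁻¹ := by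
      rw [eG]
      group
    rw [e', map_mul, map_inv, hfix, hufix']
  -- `b = u₁ h₁`
  have hHU : D.diagonalSubgroup F ≤ Subgroup.normalizer (D.posUnipotent F : Set (GL D.Idx F)) :=
    diagonal_le_normalizer_rootGen D hD D.IsPosRoot (fun r hr => hr.1)
  obtain ⟨u₁, hu₁, h₁, hh₁, hbe⟩ :=
    Cfsg.Agent.Lib.Helper25.mem_sup_of_le_normalizer _ _ hHU b hb
  have hm : h₁ * n ∈ D.monomialSubgroup F := mul_mem (hHN hh₁) hn
  have ebG : (⟨b, hBG hb⟩ : ↥(D.group F)) * ⟨n, hNG hn⟩ =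
      (⟨u₁, hUG hu₁⟩ : ↥(D.group F)) * ⟨h₁ * n, hNG hm⟩ := by
    apply Subtype.ext
    show b * n = u₁ * (h₁ * n)
    rw [hbe, mul_assoc]
  rw [ebG] at hbn
  have e4 : A.sig ⟨u₁, hUG hu₁⟩ * A.sig ⟨h₁ * n, hNG hm⟩ =
      (⟨u₁, hUG hu₁⟩ : ↥(D.group F)) * ⟨h₁ * n, hNG hm⟩ := by
    rw [← map_mul, hbn]
  have e5 : (⟨u₁, hUG hu₁⟩ : ↥(D.group F))⁻¹ * A.sig ⟨u₁, hUG hu₁⟩ =
      (⟨h₁ * n, hNG hm⟩ : ↥(D.group F)) * (A.sig ⟨h₁ * n, hNG hm⟩)⁻¹ := by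
    rw [eq_mul_inv_iff_mul_eq, mul_assoc, e4]
    group
  have h6 : u₁⁻¹ * (A.sig ⟨u₁, hUG hu₁⟩ : GL D.Idx F) ∈
      D.posUnipotent F ⊓ D.diagonalSubgroup F := by
    have h61 : u₁⁻¹ * (A.sig ⟨u₁, hUG hu₁⟩ : GL D.Idx F) ∈ D.posUnipotent F :=
      Subgroup.mul_mem _ (Subgroup.inv_mem _ hu₁) (A.sig_pos_mem _ hu₁)
    have h62 : u₁⁻¹ * (A.sig ⟨u₁, hUG hu₁⟩ : GL D.Idx F) ∈ D.monomialSubgroup F := by
      have h63 := congrArg (fun x : ↥(D.group F) => (x : GL D.Idx F)) e5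
      simp only [Subgroup.coe_mul, Subgroup.coe_inv] at h63
      rw [h63]
      exact Subgroup.mul_mem _ hm (Subgroup.inv_mem _ (A.sig_mono_mem _ hm))
    refine Subgroup.mem_inf.2 ⟨h61, ?_⟩
    rw [← borel_inf_monomial D hD]
    exact Subgroup.mem_inf.2 ⟨hUB h61, h62⟩
  rw [posUnipotent_inf_diagonal D hD, Subgroup.mem_bot] at h6
  have hu₁fix : A.sig ⟨u₁, hUG hu₁⟩ = ⟨u₁, hUG hu₁⟩ := by
    apply Subtype.ext
    have h7 : u₁ * (u₁⁻¹ * (A.sig ⟨u₁, hUG hu₁⟩ : GL D.Idx F)) = u₁ * 1 := by rw [h6]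
    rwa [mul_inv_cancel_left, mul_one] at h7
  have hmfix : A.sig ⟨h₁ * n, hNG hm⟩ = ⟨h₁ * n, hNG hm⟩ := by
    rw [hu₁fix] at e4
    exact mul_left_cancel e4
  refine ⟨⟨u₁, hUG hu₁⟩, ⟨h₁ * n, hNG hm⟩, ⟨u, huG⟩, hu₁, hm, ?_, hu₁fix, hmfix, hufix', ?_⟩
  · show u ∈ uNeg D (h₁ * n)
    rw [rk_uNeg_mul_left D hD n h₁ hh₁]
    exact hu'
  · apply Subtype.ext
    show (g : GL D.Idx F) = u₁ * (h₁ * n) * u
    rw [e, hbe]
    group

end ASig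

end Cfsg.Agent.Lib.Helper24
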