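import Cfsg.Agent.Lib.Helper24.RkSigB

/-!
# Twisted groups of rank one: the fixed elements of `N`
-/

set_option autoImplicit false

namespace Cfsg.Agent.Lib.Helper24

open Cfsg.Lie Matrix
open Cfsg.Agent.Lib.Helper25 (wPi wEta negSet uMinus)

variable {F : Type*} [Field F]

theorem rk_xGL_mem_pos (D : ChevalleyDatum) (hD : D ∈ chevList) (r : ℕ) (hr : D.IsPosRoot r)
    (t : F) : xGL D hD r t ∈ D.posUnipotent F := by
  unfold ChevalleyDatum.posUnipotent
  exact Subgroup.subset_closure ⟨r, t, hr, xGL_val D hD r t⟩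

theorem rk_xGL_mem_neg (D : ChevalleyDatum) (hD : D ∈ chevList) (r : ℕ) (hr : D.IsNegRoot r)
    (t : F) : xGL D hD r t ∈ D.negUnipotent F := by
  unfold ChevalleyDatum.negUnipotent
  exact Subgroup.subset_closure ⟨r, t, hr, xGL_val D hD r t⟩

/-- An element of `N` conjugating `U` into `V` makes every positive root negative. -/
theorem rk_conj_neg (D : ChevalleyDatum) (hD : D ∈ chevList) (n₀ : GL D.Idx F)
    (hconj : (D.posUnipotent F).map (MulAut.conj n₀).toMonoidHom ≤ D.negUnipotent F)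
    (L : List ℕ) (hL : ∀ i ∈ L, i < D.rank)
    (hact : ∀ s < D.nroots, ∃ c : F, c ≠ 0 ∧ ∀ t : F, (n₀ : Matrix D.Idx D.Idx F) * D.x F s t =
      D.x F (wPi D L s) (c * t) * (n₀ : Matrix D.Idx D.Idx F)) :
    ∀ r, D.IsPosRoot r → D.IsNegRoot (wPi D L r) := by
  intro r hr
  have hD7 : D ∈ [chevG2, chevB2, chevD4, chevF4, chevE6, chevE7, chevE8] := hD
  have hwr := Cfsg.Agent.Lib.Helper25.wPi_lt D hD7 L hL r hr.1
  rcases (Cfsg.Agent.Lib.Helper25.sign_facts D hD7 _ hwr).1 with hp | hn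
  · exfalso
    obtain ⟨c, hc0, hc⟩ := hact r hr.1
    have e1 : n₀ * xGL D hD r 1 * n₀⁻¹ = xGL D hD (wPi D L r) c := by
      rw [mul_inv_eq_iff_eq_mul]
      apply Units.ext
      rw [Units.val_mul, Units.val_mul, xGL_val, xGL_val, hc 1, mul_one]
    have hV : n₀ * xGL D hD r 1 * n₀⁻¹ ∈ D.negUnipotent F := by
      apply hconj
      exact Subgroup.mem_map.2 ⟨xGL D hD r 1, rk_xGL_mem_pos D hD r hr 1, rfl⟩
    rw [e1] at hV
    have hU : xGL D hD (wPi D L r) c ∈ D.borelSubgroup F :=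
      (le_sup_left : D.posUnipotent F ≤ D.borelSubgroup F) (rk_xGL_mem_pos D hD _ hp c)
    have hmem : xGL D hD (wPi D L r) c ∈ D.borelSubgroup F ⊓ D.negUnipotent F :=
      Subgroup.mem_inf.2 ⟨hU, hV⟩
    rw [borel_inf_negUnipotent D hD, Subgroup.mem_bot] at hmem
    have h3 := congrArg (fun g : GL D.Idx F => (g : Matrix D.Idx D.Idx F)) hmem
    simp only [xGL_val, Units.val_one] at h3
    exact Cfsg.Agent.Lib.Helper25.x_ne_one D hD7 _ hwr c hc0 h3
  · exact hn

/-- An element of `N` making every fundamental root negative is the longest word modulo `H`. -/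
theorem rk_mono_w0 (D : ChevalleyDatum) (hD : D ∈ chevList) (m : GL D.Idx F)
    (hm : m ∈ D.monomialSubgroup F) (L : List ℕ) (hL : ∀ i ∈ L, i < D.rank)
    (hact : ∀ s < D.nroots, ∃ c : F, c ≠ 0 ∧ ∀ t : F, (m : Matrix D.Idx D.Idx F) * D.x F s t =
      D.x F (wPi D L s) (c * t) * (m : Matrix D.Idx D.Idx F))
    (hnegall : ∀ i < D.rank, D.IsNegRoot (wPi D L (D.simple i)))
    (L₀ : List ℕ) (hL₀ : ∀ i ∈ L₀, i < D.rank)
    (hw₀ : ∀ i < D.rank, ∃ j < D.rank, wPi D L₀.reverse (D.simple i) = D.neg (D.simple j)) :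
    m * (nWordGL D hD L₀)⁻¹ ∈ D.diagonalSubgroup F := by
  have hD7 : D ∈ [chevG2, chevB2, chevD4, chevF4, chevE6, chevE7, chevE8] := hD
  have hact' := twC_act_word D hD L L₀ hL₀ m hact
  have hLL : ∀ a ∈ L ++ L₀.reverse, a < D.rank := by
    intro a ha
    rcases List.mem_append.1 ha with h | h
    · exact hL a h
    · exact hL₀ a (List.mem_reverse.1 h)
  refine mono_mem_diag_of_pos D hD _
    (mul_mem hm (inv_mem (nWordGL_mem_monomial D hD L₀ hL₀))) (L ++ L₀.reverse) hLL hact' ?_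
  intro i hi
  obtain ⟨j, hj, e⟩ := hw₀ i hi
  rw [Cfsg.Agent.Lib.Helper25.wPi_append, e,
    Cfsg.Agent.Lib.Helper25.wPi_neg D hD7 L hL _ (simple_lt D hD j hj)]
  have hlt := Cfsg.Agent.Lib.Helper25.wPi_lt D hD7 L hL _ (simple_lt D hD j hj)
  exact ((Cfsg.Agent.Lib.Helper25.sign_facts D hD7 _ hlt).2.2.1).1 (hnegall j hj)

namespace ASig

variable {D : ChevalleyDatum} {hD : D ∈ chevList} (A : ASig F D hD)

/-- Rank one: a fixed element of `N` lies in `H` or in `H n₀`. -/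
theorem fixed_mono_rk1
    (htr : ∀ i < D.rank, ∀ j < D.rank, ∃ k : ℕ, D.simple j = A.π^[k] (D.simple i))
    (L₀ : List ℕ) (hL₀ : ∀ i ∈ L₀, i < D.rank)
    (hw₀ : ∀ i < D.rank, ∃ j < D.rank, wPi D L₀.reverse (D.simple i) = D.neg (D.simple j))
    (n₀ : GL D.Idx F) (hn₀ : n₀ ∈ D.monomialSubgroup F)
    (hconj : (D.posUnipotent F).map (MulAut.conj n₀).toMonoidHom ≤ D.negUnipotent F)
    (m : ↥(D.group F)) (hm : (m : GL D.Idx F) ∈ D.monomialSubgroup F) (hfix : A.sig m = m) :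
    (m : GL D.Idx F) ∈ D.diagonalSubgroup F ∨
      (m : GL D.Idx F) * n₀⁻¹ ∈ D.diagonalSubgroup F := by
  have hD7 : D ∈ [chevG2, chevB2, chevD4, chevF4, chevE6, chevE7, chevE8] := hD
  obtain ⟨L, hL, hact⟩ := Cfsg.Agent.Lib.Helper25.monomial_act D hD7
    (Cfsg.Agent.Lib.Helper25.orb_all D hD7) (m : GL D.Idx F) hm
  -- (i) the root permutation of `L` commutes with `π`
  have hLπ : ∀ s < D.nroots, wPi D L (A.π s) = A.π (wPi D L s) := by
    intro s hs
    obtain ⟨c, hc0, hc⟩ := hact s hs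
    have hws : wPi D L s < D.nroots := Cfsg.Agent.Lib.Helper25.wPi_lt D hD7 L hL s hs
    have hπs : A.π s < D.nroots := A.hπ s hs
    obtain ⟨c', hc'0, hc'⟩ := hact (A.π s) hπs
    have e1 : m * xG D hD s 1 = xG D hD (wPi D L s) c * m := by
      apply Subtype.ext
      apply Units.ext
      show ((m : GL D.Idx F) : Matrix D.Idx D.Idx F) *
          ((xGL D hD s 1 : GL D.Idx F) : Matrix D.Idx D.Idx F) =
        ((xGL D hD (wPi D L s) c : GL D.Idx F) : Matrix D.Idx D.Idx F) *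
          ((m : GL D.Idx F) : Matrix D.Idx D.Idx F)
      rw [xGL_val, xGL_val, hc 1, mul_one]
    have e2 := congrArg (fun x : ↥(D.group F) => (A.sig x : GL D.Idx F)) e1
    simp only [map_mul, Subgroup.coe_mul, hfix] at e2
    rw [A.sig_xG s hs, A.sig_xG _ hws] at e2
    have e3 := congrArg (fun g : GL D.Idx F => (g : Matrix D.Idx D.Idx F)) e2
    simp only [Units.val_mul, xGL_val] at e3
    rw [hc' _] at e3
    have hminv : ((m : GL D.Idx F) : Matrix D.Idx D.Idx F) *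
        (((m : GL D.Idx F)⁻¹ : GL D.Idx F) : Matrix D.Idx D.Idx F) = 1 := by
      rw [← Units.val_mul, mul_inv_cancel, Units.val_one]
    have e4 : D.x F (wPi D L (A.π s)) (c' * A.c s 1) =
        D.x F (A.π (wPi D L s)) (A.c (wPi D L s) c) := by
      have := congrArg (fun X : Matrix D.Idx D.Idx F =>
        X * (((m : GL D.Idx F)⁻¹ : GL D.Idx F) : Matrix D.Idx D.Idx F)) e3
      simp only [Matrix.mul_assoc, hminv, Matrix.mul_one] at this
      exact this
    refine twC_x_root_inj D hD7 _ _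
      (Cfsg.Agent.Lib.Helper25.wPi_lt D hD7 L hL _ hπs) (A.hπ _ hws) _ _ ?_ e4
    rw [A.hc1 s hs, mul_one]
    exact hc'0
  by_cases hpos : ∀ i < D.rank, D.IsPosRoot (wPi D L (D.simple i))
  · left
    exact mono_mem_diag_of_pos D hD _ hm L hL hact hpos
  · right
    push Not at hpos
    obtain ⟨i, hi, hni⟩ := hpos
    have hsi : D.simple i < D.nroots := simple_lt D hD i hi
    have hwi : wPi D L (D.simple i) < D.nroots :=
      Cfsg.Agent.Lib.Helper25.wPi_lt D hD7 L hL _ hsi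
    have hnegi : D.IsNegRoot (wPi D L (D.simple i)) := by
      rcases (Cfsg.Agent.Lib.Helper25.sign_facts D hD7 _ hwi).1 with h | h
      · exact absurd h hni
      · exact h
    have hiter : ∀ (k : ℕ) (r : ℕ), r < D.nroots →
        A.π^[k] r < D.nroots ∧ wPi D L (A.π^[k] r) = A.π^[k] (wPi D L r) := by
      intro k r hr
      induction k with
      | zero => exact ⟨hr, rfl⟩
      | succ k ih =>
        rw [Function.iterate_succ_apply', Function.iterate_succ_apply']
        exact ⟨A.hπ _ ih.1, by rw [hLπ _ ih.1, ih.2]⟩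
    have hiterneg : ∀ (k : ℕ) (r : ℕ), D.IsNegRoot r → D.IsNegRoot (A.π^[k] r) := by
      intro k r hr
      induction k with
      | zero => exact hr
      | succ k ih =>
        rw [Function.iterate_succ_apply']
        exact A.hneg _ ih
    have hnegall : ∀ j < D.rank, D.IsNegRoot (wPi D L (D.simple j)) := by
      intro j hj
      obtain ⟨k, hk⟩ := htr i hi j hj
      rw [hk, (hiter k _ hsi).2]
      exact hiterneg k _ hnegi
    have h1 := rk_mono_w0 D hD _ hm L hL hact hnegall L₀ hL₀ hw₀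
    obtain ⟨L', hL', hact'⟩ := Cfsg.Agent.Lib.Helper25.monomial_act D hD7
      (Cfsg.Agent.Lib.Helper25.orb_all D hD7) n₀ hn₀
    have hneg' := rk_conj_neg D hD n₀ hconj L' hL' hact'
    have h2 := rk_mono_w0 D hD n₀ hn₀ L' hL' hact'
      (fun j hj => hneg' _ (Cfsg.Agent.Lib.Helper25.upChk_all D hD7 j hj).1) L₀ hL₀ hw₀
    have e : (m : GL D.Idx F) * n₀⁻¹ = ((m : GL D.Idx F) * (nWordGL D hD L₀)⁻¹) *
        (n₀ * (nWordGL D hD L₀)⁻¹)⁻¹ := by group
    rw [e]
    exact mul_mem h1 (inv_mem h2)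

end ASig

end Cfsg.Agent.Lib.Helper24
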