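import Cfsg.Agent.Lib.Helper24.RkSigC

/-!
# Twisted groups of rank one: the two cells and the order
-/

set_option autoImplicit false

namespace Cfsg.Agent.Lib.Helper24

open Cfsg.Lie Matrix
open Cfsg.Agent.Lib.Helper25 (wPi wEta negSet uMinus)

variable {F : Type*} [Field F]

/-- The setting of a twisted group `G1` of rank one inside the Chevalley group of `D`. -/
structure Rk1 (F : Type*) [Field F] (D : ChevalleyDatum) (hD : D ∈ chevList) where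
  A : ASig F D hD
  G1 : Subgroup (GL D.Idx F)
  n₀ : GL D.Idx F
  L₀ : List ℕ
  hrk : 0 < D.rank
  htr : ∀ i < D.rank, ∀ j < D.rank, ∃ k : ℕ, D.simple j = A.π^[k] (D.simple i)
  hL₀ : ∀ i ∈ L₀, i < D.rank
  hw₀ : ∀ i < D.rank, ∃ j < D.rank, wPi D L₀.reverse (D.simple i) = D.neg (D.simple j)
  hn₀N : n₀ ∈ D.monomialSubgroup F
  hconj : (D.posUnipotent F).map (MulAut.conj n₀).toMonoidHom ≤ D.negUnipotent F
  hG1le : G1 ≤ D.group F
  hG1fix : ∀ g : ↥(D.group F), (g : GL D.Idx F) ∈ G1 → A.sig g = g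
  hUfix : ∀ u : ↥(D.group F), (u : GL D.Idx F) ∈ D.posUnipotent F → A.sig u = u →
    (u : GL D.Idx F) ∈ G1
  hn₀G : n₀ ∈ G1

namespace Rk1

variable {D : ChevalleyDatum} {hD : D ∈ chevList} (R : Rk1 F D hD)

/-- `B ∩ G¹ = (U ∩ G¹)(H ∩ G¹)`. -/
theorem borel_decomp (b : GL D.Idx F) (hb : b ∈ D.borelSubgroup F ⊓ R.G1) :
    ∃ u ∈ D.posUnipotent F ⊓ R.G1, ∃ h ∈ D.diagonalSubgroup F ⊓ R.G1, b = u * h := by
  have hUG := posUnipotent_le_group (F := F) D hD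
  have hHG := diagonalSubgroup_le_group (F := F) D hD
  have hHU : D.diagonalSubgroup F ≤ Subgroup.normalizer (D.posUnipotent F : Set (GL D.Idx F)) :=
    diagonal_le_normalizer_rootGen D hD D.IsPosRoot (fun r hr => hr.1)
  obtain ⟨u, hu, h, hh, e⟩ :=
    Cfsg.Agent.Lib.Helper25.mem_sup_of_le_normalizer _ _ hHU b hb.1
  have hbfix := R.hG1fix ⟨b, R.hG1le hb.2⟩ hb.2
  have eG : (⟨b, R.hG1le hb.2⟩ : ↥(D.group F)) = ⟨u, hUG hu⟩ * ⟨h, hHG hh⟩ := Subtype.ext e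
  rw [eG, map_mul] at hbfix
  have e5 : (⟨u, hUG hu⟩ : ↥(D.group F))⁻¹ * R.A.sig ⟨u, hUG hu⟩ =
      (⟨h, hHG hh⟩ : ↥(D.group F)) * (R.A.sig ⟨h, hHG hh⟩)⁻¹ := by
    rw [eq_mul_inv_iff_mul_eq, mul_assoc, hbfix]
    group
  have h6 : u⁻¹ * (R.A.sig ⟨u, hUG hu⟩ : GL D.Idx F) ∈
      D.posUnipotent F ⊓ D.diagonalSubgroup F := by
    refine Subgroup.mem_inf.2
      ⟨Subgroup.mul_mem _ (Subgroup.inv_mem _ hu) (R.A.sig_pos_mem _ hu), ?_⟩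
    have h63 := congrArg (fun x : ↥(D.group F) => (x : GL D.Idx F)) e5
    simp only [Subgroup.coe_mul, Subgroup.coe_inv] at h63
    rw [h63]
    exact Subgroup.mul_mem _ hh (Subgroup.inv_mem _ (R.A.sig_diag_mem _ hh))
  rw [posUnipotent_inf_diagonal D hD, Subgroup.mem_bot] at h6
  have hufix : R.A.sig ⟨u, hUG hu⟩ = ⟨u, hUG hu⟩ := by
    apply Subtype.ext
    have h7 : u * (u⁻¹ * (R.A.sig ⟨u, hUG hu⟩ : GL D.Idx F)) = u * 1 := by rw [h6]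
    rwa [mul_inv_cancel_left, mul_one] at h7
  have huG1 : u ∈ R.G1 := R.hUfix ⟨u, hUG hu⟩ hu hufix
  have hhG1 : h ∈ R.G1 := by
    have e' : h = u⁻¹ * b := by rw [e]; group
    rw [e']
    exact Subgroup.mul_mem _ (Subgroup.inv_mem _ huG1) hb.2
  exact ⟨u, Subgroup.mem_inf.2 ⟨hu, huG1⟩, h, Subgroup.mem_inf.2 ⟨hh, hhG1⟩, e⟩

/-- The two cells of `G¹`. -/
theorem decomp (g : GL D.Idx F) (hg : g ∈ R.G1) :
    g ∈ D.borelSubgroup F ⊓ R.G1 ∨ ∃ b ∈ D.borelSubgroup F ⊓ R.G1,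
      ∃ u ∈ D.posUnipotent F ⊓ R.G1, g = b * R.n₀ * u := by
  have hHB : D.diagonalSubgroup F ≤ D.borelSubgroup F := le_sup_right
  have hUB : D.posUnipotent F ≤ D.borelSubgroup F := le_sup_left
  obtain ⟨u₁, m, u, hu₁, hm, hu, hu₁fix, hmfix, hufix, e⟩ :=
    R.A.fixed_bruhat ⟨g, R.hG1le hg⟩ (R.hG1fix _ hg)
  have hu₁G := R.hUfix u₁ hu₁ hu₁fix
  have huU : (u : GL D.Idx F) ∈ D.posUnipotent F := rk_uNeg_le D _ hu
  have huG := R.hUfix u huU hufix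
  have e' : g = (u₁ : GL D.Idx F) * (m : GL D.Idx F) * (u : GL D.Idx F) :=
    congrArg (fun x : ↥(D.group F) => (x : GL D.Idx F)) e
  have hmG : (m : GL D.Idx F) ∈ R.G1 := by
    have e2 : (m : GL D.Idx F) = (u₁ : GL D.Idx F)⁻¹ * g * (u : GL D.Idx F)⁻¹ := by
      rw [e']; group
    rw [e2]
    exact Subgroup.mul_mem _ (Subgroup.mul_mem _ (Subgroup.inv_mem _ hu₁G) hg)
      (Subgroup.inv_mem _ huG)
  rcases R.A.fixed_mono_rk1 R.htr R.L₀ R.hL₀ R.hw₀ R.n₀ R.hn₀N R.hconj m hm hmfix with h | h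
  · left
    refine Subgroup.mem_inf.2 ⟨?_, hg⟩
    rw [e']
    exact Subgroup.mul_mem _ (Subgroup.mul_mem _ (hUB hu₁) (hHB h)) (hUB huU)
  · right
    refine ⟨(u₁ : GL D.Idx F) * ((m : GL D.Idx F) * R.n₀⁻¹),
      Subgroup.mem_inf.2 ⟨Subgroup.mul_mem _ (hUB hu₁) (hHB h),
        Subgroup.mul_mem _ hu₁G (Subgroup.mul_mem _ hmG (Subgroup.inv_mem _ R.hn₀G))⟩,
      (u : GL D.Idx F), Subgroup.mem_inf.2 ⟨huU, huG⟩, ?_⟩
    rw [e']
    group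

theorem n0_not_borel : R.n₀ ∉ D.borelSubgroup F := by
  intro hB
  have hD7 : D ∈ [chevG2, chevB2, chevD4, chevF4, chevE6, chevE7, chevE8] := hD
  have hH : R.n₀ ∈ D.diagonalSubgroup F := by
    rw [← borel_inf_monomial D hD]
    exact Subgroup.mem_inf.2 ⟨hB, R.hn₀N⟩
  have hHU : D.diagonalSubgroup F ≤ Subgroup.normalizer (D.posUnipotent F : Set (GL D.Idx F)) :=
    diagonal_le_normalizer_rootGen D hD D.IsPosRoot (fun r hr => hr.1)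
  have hpos := (Cfsg.Agent.Lib.Helper25.upChk_all D hD7 0 R.hrk).1
  have hx := rk_xGL_mem_pos (F := F) D hD _ hpos 1
  have h1 : R.n₀ * xGL D hD (D.simple 0) 1 * R.n₀⁻¹ ∈ D.posUnipotent F :=
    ((Subgroup.mem_set_normalizer_iff.1 (hHU hH)) _).1 hx
  have h2 : R.n₀ * xGL D hD (D.simple 0) 1 * R.n₀⁻¹ ∈ D.negUnipotent F :=
    R.hconj (Subgroup.mem_map.2 ⟨_, hx, rfl⟩)
  have h3 : R.n₀ * xGL D hD (D.simple 0) 1 * R.n₀⁻¹ ∈ D.borelSubgroup F ⊓ D.negUnipotent F :=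
    Subgroup.mem_inf.2 ⟨(le_sup_left : D.posUnipotent F ≤ D.borelSubgroup F) h1, h2⟩
  rw [borel_inf_negUnipotent D hD, Subgroup.mem_bot] at h3
  have h4 : xGL (F := F) D hD (D.simple 0) 1 = 1 := by
    have e : xGL (F := F) D hD (D.simple 0) 1 =
        R.n₀⁻¹ * (R.n₀ * xGL D hD (D.simple 0) 1 * R.n₀⁻¹) * R.n₀ := by group
    rw [e, h3]
    group
  have h5 := congrArg (fun g : GL D.Idx F => (g : Matrix D.Idx D.Idx F)) h4
  simp only [xGL_val, Units.val_one] at h5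
  exact Cfsg.Agent.Lib.Helper25.x_ne_one D hD7 _ hpos.1 1 one_ne_zero h5

theorem cell_unique (b b' u u' : GL D.Idx F) (hb : b ∈ D.borelSubgroup F)
    (hb' : b' ∈ D.borelSubgroup F) (hu : u ∈ D.posUnipotent F) (hu' : u' ∈ D.posUnipotent F)
    (e : b * R.n₀ * u = b' * R.n₀ * u') : b = b' ∧ u = u' := by
  have e1 : b'⁻¹ * b = R.n₀ * (u' * u⁻¹) * R.n₀⁻¹ := by
    have : b = b' * R.n₀ * u' * u⁻¹ * R.n₀⁻¹ := by
      rw [← e]; group
    rw [this]; group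
  have h2 : R.n₀ * (u' * u⁻¹) * R.n₀⁻¹ ∈ D.negUnipotent F :=
    R.hconj (Subgroup.mem_map.2 ⟨_, Subgroup.mul_mem _ hu' (Subgroup.inv_mem _ hu), rfl⟩)
  have h3 : b'⁻¹ * b ∈ D.borelSubgroup F ⊓ D.negUnipotent F :=
    Subgroup.mem_inf.2 ⟨Subgroup.mul_mem _ (Subgroup.inv_mem _ hb') hb, by rw [e1]; exact h2⟩
  rw [borel_inf_negUnipotent D hD, Subgroup.mem_bot] at h3
  have hbb : b = b' := by
    have : b = b' * (b'⁻¹ * b) := by group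
    rw [this, h3, mul_one]
  refine ⟨hbb, ?_⟩
  rw [hbb] at e
  exact mul_left_cancel e

theorem card_borel [Finite F] :
    Nat.card ↥(D.borelSubgroup F ⊓ R.G1) =
      Nat.card ↥(D.posUnipotent F ⊓ R.G1) * Nat.card ↥(D.diagonalSubgroup F ⊓ R.G1) := by
  have hHB : D.diagonalSubgroup F ≤ D.borelSubgroup F := le_sup_right
  have hUB : D.posUnipotent F ≤ D.borelSubgroup F := le_sup_left
  rw [← Nat.card_prod]
  symm
  refine Nat.card_congr (Equiv.ofBijective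
    (fun p : ↥(D.posUnipotent F ⊓ R.G1) × ↥(D.diagonalSubgroup F ⊓ R.G1) =>
      (⟨(p.1 : GL D.Idx F) * (p.2 : GL D.Idx F),
        Subgroup.mem_inf.2 ⟨Subgroup.mul_mem _ (hUB (Subgroup.mem_inf.1 p.1.2).1)
          (hHB (Subgroup.mem_inf.1 p.2.2).1),
          Subgroup.mul_mem _ (Subgroup.mem_inf.1 p.1.2).2 (Subgroup.mem_inf.1 p.2.2).2⟩⟩ :
        ↥(D.borelSubgroup F ⊓ R.G1))) ⟨?_, ?_⟩)
  · rintro ⟨⟨u, hu⟩, ⟨h, hh⟩⟩ ⟨⟨u', hu'⟩, ⟨h', hh'⟩⟩ e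
    have e1 : u * h = u' * h' := congrArg (fun x : ↥(D.borelSubgroup F ⊓ R.G1) =>
      (x : GL D.Idx F)) e
    have e2 : u'⁻¹ * u = h' * h⁻¹ := by
      have : u = u' * h' * h⁻¹ := by rw [← e1]; group
      rw [this]; group
    have h3 : u'⁻¹ * u ∈ D.posUnipotent F ⊓ D.diagonalSubgroup F :=
      Subgroup.mem_inf.2 ⟨Subgroup.mul_mem _ (Subgroup.inv_mem _ hu'.1) hu.1, by
        rw [e2]; exact Subgroup.mul_mem _ hh'.1 (Subgroup.inv_mem _ hh.1)⟩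
    rw [posUnipotent_inf_diagonal D hD, Subgroup.mem_bot] at h3
    have huu : u = u' := by
      have : u = u' * (u'⁻¹ * u) := by group
      rw [this, h3, mul_one]
    subst huu
    have hhh : h = h' := mul_left_cancel e1
    subst hhh
    rfl
  · rintro ⟨b, hb⟩
    obtain ⟨u, hu, h, hh, e⟩ := R.borel_decomp b hb
    exact ⟨(⟨u, hu⟩, ⟨h, hh⟩), Subtype.ext e.symm⟩

theorem card_G1 [Finite F] :
    Nat.card ↥R.G1 = Nat.card ↥(D.borelSubgroup F ⊓ R.G1) +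
      Nat.card ↥(D.borelSubgroup F ⊓ R.G1) * Nat.card ↥(D.posUnipotent F ⊓ R.G1) := by
  have hUB : D.posUnipotent F ≤ D.borelSubgroup F := le_sup_left
  rw [← Nat.card_prod, ← Nat.card_sum]
  symm
  refine Nat.card_congr (Equiv.ofBijective
    (Sum.elim (fun b : ↥(D.borelSubgroup F ⊓ R.G1) =>
        (⟨(b : GL D.Idx F), (Subgroup.mem_inf.1 b.2).2⟩ : ↥R.G1))
      (fun q : ↥(D.borelSubgroup F ⊓ R.G1) × ↥(D.posUnipotent F ⊓ R.G1) =>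
        (⟨(q.1 : GL D.Idx F) * R.n₀ * (q.2 : GL D.Idx F),
          Subgroup.mul_mem _ (Subgroup.mul_mem _ (Subgroup.mem_inf.1 q.1.2).2 R.hn₀G)
            (Subgroup.mem_inf.1 q.2.2).2⟩ : ↥R.G1))) ⟨?_, ?_⟩)
  · rintro (⟨b, hb⟩ | ⟨⟨b, hb⟩, ⟨u, hu⟩⟩) (⟨b', hb'⟩ | ⟨⟨b', hb'⟩, ⟨u', hu'⟩⟩) e
    · have e1 : b = b' := congrArg (fun x : ↥R.G1 => (x : GL D.Idx F)) e
      subst e1
      rfl
    · exfalso
      have e1 : b = b' * R.n₀ * u' := congrArg (fun x : ↥R.G1 => (x : GL D.Idx F)) e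
      apply R.n0_not_borel
      have e2 : R.n₀ = b'⁻¹ * b * u'⁻¹ := by rw [e1]; group
      rw [e2]
      exact Subgroup.mul_mem _ (Subgroup.mul_mem _ (Subgroup.inv_mem _ hb'.1) hb.1)
        (Subgroup.inv_mem _ (hUB hu'.1))
    · exfalso
      have e1 : b * R.n₀ * u = b' := congrArg (fun x : ↥R.G1 => (x : GL D.Idx F)) e
      apply R.n0_not_borel
      have e2 : R.n₀ = b⁻¹ * b' * u⁻¹ := by rw [← e1]; group
      rw [e2]
      exact Subgroup.mul_mem _ (Subgroup.mul_mem _ (Subgroup.inv_mem _ hb.1) hb'.1)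
        (Subgroup.inv_mem _ (hUB hu.1))
    · have e1 : b * R.n₀ * u = b' * R.n₀ * u' :=
        congrArg (fun x : ↥R.G1 => (x : GL D.Idx F)) e
      obtain ⟨h1, h2⟩ := R.cell_unique b b' u u' hb.1 hb'.1 hu.1 hu'.1 e1
      subst h1
      subst h2
      rfl
  · rintro ⟨g, hg⟩
    rcases R.decomp g hg with h | ⟨b, hb, u, hu, e⟩
    · exact ⟨Sum.inl ⟨g, h⟩, rfl⟩
    · exact ⟨Sum.inr (⟨b, hb⟩, ⟨u, hu⟩), Subtype.ext e.symm⟩

end Rk1

end Cfsg.Agent.Lib.Helper24
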