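import Cfsg.Agent.Lib.Helper24.RkSigD
import Cfsg.Prelude.Def_LieExceptional

/-!
# Twisted groups of rank one: the `(B, N)`-pair and `N¹ / H¹`
-/

set_option autoImplicit false
set_option maxHeartbeats 400000

namespace Cfsg.Agent.Lib.Helper24

open Cfsg.Lie Matrix
open Cfsg.Agent.Lib.Helper25 (wPi wEta negSet uMinus)

variable {F : Type*} [Field F]

namespace Rk1

variable {D : ChevalleyDatum} {hD : D ∈ chevList} (R : Rk1 F D hD)

theorem mono_cases (m : GL D.Idx F) (hm : m ∈ D.monomialSubgroup F ⊓ R.G1) :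
    m ∈ D.diagonalSubgroup F ∨ m * R.n₀⁻¹ ∈ D.diagonalSubgroup F :=
  R.A.fixed_mono_rk1 R.htr R.L₀ R.hL₀ R.hw₀ R.n₀ R.hn₀N R.hconj ⟨m, R.hG1le hm.2⟩ hm.1
    (R.hG1fix _ hm.2)

theorem n0_not_diag : R.n₀ ∉ D.diagonalSubgroup F :=
  fun h => R.n0_not_borel ((le_sup_right : D.diagonalSubgroup F ≤ D.borelSubgroup F) h)

theorem n0_sq : R.n₀ * R.n₀ ∈ D.diagonalSubgroup F := by
  rcases R.mono_cases (R.n₀ * R.n₀) (Subgroup.mem_inf.2
    ⟨Subgroup.mul_mem _ R.hn₀N R.hn₀N, Subgroup.mul_mem _ R.hn₀G R.hn₀G⟩) with h | h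
  · exact h
  · exfalso
    apply R.n0_not_diag
    have e : R.n₀ * R.n₀ * R.n₀⁻¹ = R.n₀ := by group
    rwa [e] at h

theorem mul_mem_diag (m m' : GL D.Idx F) (hm : m ∈ D.monomialSubgroup F ⊓ R.G1)
    (hm' : m' ∈ D.monomialSubgroup F ⊓ R.G1) (h1 : m ∉ D.diagonalSubgroup F)
    (h2 : m' ∉ D.diagonalSubgroup F) : m * m' ∈ D.diagonalSubgroup F := by
  have a := (R.mono_cases m hm).resolve_left h1
  have b := (R.mono_cases m' hm').resolve_left h2
  have hn := monomial_le_normalizer_diagonal D hD R.hn₀N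
  have c : R.n₀ * (m' * R.n₀⁻¹) * R.n₀⁻¹ ∈ D.diagonalSubgroup F :=
    ((Subgroup.mem_set_normalizer_iff.1 hn) _).1 b
  have e : m * m' = (m * R.n₀⁻¹) * (R.n₀ * (m' * R.n₀⁻¹) * R.n₀⁻¹) * (R.n₀ * R.n₀) := by group
  rw [e]
  exact Subgroup.mul_mem _ (Subgroup.mul_mem _ a c) R.n0_sq

/-- `N¹ / H¹` has order two. -/
theorem weyl_hom : ∃ φ : ↥(D.monomialSubgroup F ⊓ R.G1) →* Multiplicative (ZMod 2),
    Function.Surjective φ ∧ φ.ker =
      (D.diagonalSubgroup F ⊓ R.G1).subgroupOf (D.monomialSubgroup F ⊓ R.G1) := by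
  classical
  let f : ↥(D.monomialSubgroup F ⊓ R.G1) → Multiplicative (ZMod 2) := fun m =>
    if (m : GL D.Idx F) ∈ D.diagonalSubgroup F then 1 else Multiplicative.ofAdd 1
  have hf1 : ∀ m : ↥(D.monomialSubgroup F ⊓ R.G1), (m : GL D.Idx F) ∈ D.diagonalSubgroup F →
      f m = 1 := fun m h => if_pos h
  have hf2 : ∀ m : ↥(D.monomialSubgroup F ⊓ R.G1), (m : GL D.Idx F) ∉ D.diagonalSubgroup F →
      f m = Multiplicative.ofAdd 1 := fun m h => if_neg h
  have hne : (Multiplicative.ofAdd (1 : ZMod 2)) ≠ 1 := by decide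
  have hsq : (Multiplicative.ofAdd (1 : ZMod 2)) * Multiplicative.ofAdd 1 = 1 := by decide
  have hmul : ∀ a b : ↥(D.monomialSubgroup F ⊓ R.G1), f (a * b) = f a * f b := by
    intro a b
    by_cases ha : (a : GL D.Idx F) ∈ D.diagonalSubgroup F
    · by_cases hb : (b : GL D.Idx F) ∈ D.diagonalSubgroup F
      · rw [hf1 a ha, hf1 b hb, hf1 _ (by rw [Subgroup.coe_mul]; exact Subgroup.mul_mem _ ha hb),
          one_mul]
      · have hab : ((a * b : ↥(D.monomialSubgroup F ⊓ R.G1)) : GL D.Idx F) ∉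
            D.diagonalSubgroup F := by
          rw [Subgroup.coe_mul]
          intro h
          apply hb
          have e : (b : GL D.Idx F) = (a : GL D.Idx F)⁻¹ * ((a : GL D.Idx F) * (b : GL D.Idx F)) := by
            group
          rw [e]
          exact Subgroup.mul_mem _ (Subgroup.inv_mem _ ha) h
        rw [hf1 a ha, hf2 b hb, hf2 _ hab, one_mul]
    · by_cases hb : (b : GL D.Idx F) ∈ D.diagonalSubgroup F
      · have hab : ((a * b : ↥(D.monomialSubgroup F ⊓ R.G1)) : GL D.Idx F) ∉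
            D.diagonalSubgroup F := by
          rw [Subgroup.coe_mul]
          intro h
          apply ha
          have e : (a : GL D.Idx F) = ((a : GL D.Idx F) * (b : GL D.Idx F)) * (b : GL D.Idx F)⁻¹ := by
            group
          rw [e]
          exact Subgroup.mul_mem _ h (Subgroup.inv_mem _ hb)
        rw [hf2 a ha, hf1 b hb, hf2 _ hab, mul_one]
      · rw [hf2 a ha, hf2 b hb, hf1 _ (by
          rw [Subgroup.coe_mul]; exact R.mul_mem_diag _ _ a.2 b.2 ha hb), hsq]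
  refine ⟨MonoidHom.mk' f hmul, ?_, ?_⟩
  · intro z
    have hz : ∀ z : Multiplicative (ZMod 2), z = 1 ∨ z = Multiplicative.ofAdd 1 := by decide
    rcases hz z with rfl | rfl
    · exact ⟨1, hf1 1 (by rw [Subgroup.coe_one]; exact Subgroup.one_mem _)⟩
    · exact ⟨⟨R.n₀, Subgroup.mem_inf.2 ⟨R.hn₀N, R.hn₀G⟩⟩, hf2 _ R.n0_not_diag⟩
  · ext m
    rw [MonoidHom.mem_ker, Subgroup.mem_subgroupOf]
    show f m = 1 ↔ (m : GL D.Idx F) ∈ D.diagonalSubgroup F ⊓ R.G1
    constructor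
    · intro h
      by_contra hc
      have hm : (m : GL D.Idx F) ∉ D.diagonalSubgroup F :=
        fun h' => hc (Subgroup.mem_inf.2 ⟨h', (Subgroup.mem_inf.1 m.2).2⟩)
      rw [hf2 m hm] at h
      exact hne h
    · intro h
      exact hf1 m (Subgroup.mem_inf.1 h).1

/-- The `(B, N)`-pair of a twisted group of rank one. -/
theorem bnPair (hU1 : ∃ u ∈ D.posUnipotent F ⊓ R.G1, u ≠ 1) :
    ∃ P : Cfsg.BNPair ↥R.G1, P.B = (D.borelSubgroup F ⊓ R.G1).subgroupOf R.G1 ∧
      P.N = (D.monomialSubgroup F ⊓ R.G1).subgroupOf R.G1 := by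
  have hHB : D.diagonalSubgroup F ≤ D.borelSubgroup F := le_sup_right
  have hUB : D.posUnipotent F ≤ D.borelSubgroup F := le_sup_left
  have hHN : D.diagonalSubgroup F ≤ D.monomialSubgroup F := by
    unfold ChevalleyDatum.monomialSubgroup
    exact le_sup_left
  have memB : ∀ g : ↥R.G1, g ∈ (D.borelSubgroup F ⊓ R.G1).subgroupOf R.G1 ↔
      (g : GL D.Idx F) ∈ D.borelSubgroup F := by
    intro g
    rw [Subgroup.mem_subgroupOf, Subgroup.mem_inf]
    exact ⟨fun h => h.1, fun h => ⟨h, g.2⟩⟩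
  have memN : ∀ g : ↥R.G1, g ∈ (D.monomialSubgroup F ⊓ R.G1).subgroupOf R.G1 ↔
      (g : GL D.Idx F) ∈ D.monomialSubgroup F := by
    intro g
    rw [Subgroup.mem_subgroupOf, Subgroup.mem_inf]
    exact ⟨fun h => h.1, fun h => ⟨h, g.2⟩⟩
  obtain ⟨n0, hn0⟩ : ∃ x : ↥R.G1, (x : GL D.Idx F) = R.n₀ := ⟨⟨R.n₀, R.hn₀G⟩, rfl⟩
  have hn0N : n0 ∈ (D.monomialSubgroup F ⊓ R.G1).subgroupOf R.G1 := by
    rw [memN, hn0]
    exact R.hn₀N
  have mkG : ∀ x : GL D.Idx F, x ∈ R.G1 → ∃ y : ↥R.G1, (y : GL D.Idx F) = x :=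
    fun x hx => ⟨⟨x, hx⟩, rfl⟩
  refine ⟨{ B := (D.borelSubgroup F ⊓ R.G1).subgroupOf R.G1
            N := (D.monomialSubgroup F ⊓ R.G1).subgroupOf R.G1
            S := {n0}
            sup_eq_top := ?_
            conj_mem := ?_
            subset := ?_
            sq_mem := ?_
            inj := ?_
            closure_sup := ?_
            mul_mem_union := ?_
            conj_ne := ?_ }, rfl, rfl⟩
  · -- sup_eq_top
    rw [eq_top_iff]
    intro g _
    rcases R.decomp (g : GL D.Idx F) g.2 with h | ⟨b, hb, u, hu, e⟩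
    · exact Subgroup.mem_sup_left ((memB _).2 (Subgroup.mem_inf.1 h).1)
    · obtain ⟨b1, hb1⟩ := mkG b (Subgroup.mem_inf.1 hb).2
      obtain ⟨u1, hu1⟩ := mkG u (Subgroup.mem_inf.1 hu).2
      have e' : g = b1 * n0 * u1 := by
        apply Subtype.ext
        rw [Subgroup.coe_mul, Subgroup.coe_mul, hb1, hu1, hn0]
        exact e
      rw [e']
      exact Subgroup.mul_mem _ (Subgroup.mul_mem _
        (Subgroup.mem_sup_left ((memB _).2 (by rw [hb1]; exact (Subgroup.mem_inf.1 hb).1)))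
        (Subgroup.mem_sup_right hn0N))
        (Subgroup.mem_sup_left ((memB _).2 (by rw [hu1]; exact hUB (Subgroup.mem_inf.1 hu).1)))
  · -- conj_mem
    intro n hn t ht
    rw [memB]
    have hnN := (memN n).1 hn
    have htH : (t : GL D.Idx F) ∈ D.diagonalSubgroup F := by
      rw [← borel_inf_monomial D hD]
      exact Subgroup.mem_inf.2 ⟨(memB t).1 (Subgroup.mem_inf.1 ht).1,
        (memN t).1 (Subgroup.mem_inf.1 ht).2⟩
    have hnorm := monomial_le_normalizer_diagonal D hD hnN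
    rw [Subgroup.coe_mul, Subgroup.coe_mul, Subgroup.coe_inv]
    exact hHB (((Subgroup.mem_set_normalizer_iff.1 hnorm) _).1 htH)
  · -- subset
    intro s hs
    rw [Set.mem_singleton_iff] at hs
    rw [hs]
    exact hn0N
  · -- sq_mem
    intro s hs
    rw [Set.mem_singleton_iff] at hs
    rw [hs, memB, Subgroup.coe_mul, hn0]
    exact hHB R.n0_sq
  · -- inj
    intro s hs s' hs' _
    rw [Set.mem_singleton_iff] at hs hs'
    rw [hs, hs']
  · -- closure_sup
    apply le_antisymm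
    · apply sup_le
      · rw [Subgroup.closure_le]
        intro s hs
        rw [Set.mem_singleton_iff] at hs
        rw [hs]
        exact hn0N
      · exact inf_le_right
    · intro m hm
      have hmN := (memN m).1 hm
      rcases R.mono_cases (m : GL D.Idx F) (Subgroup.mem_inf.2 ⟨hmN, m.2⟩) with h | h
      · exact Subgroup.mem_sup_right (Subgroup.mem_inf.2 ⟨(memB m).2 (hHB h), hm⟩)
      · have e : m = (m * n0⁻¹) * n0 := by group
        rw [e]
        refine Subgroup.mul_mem _ (Subgroup.mem_sup_right (Subgroup.mem_inf.2 ⟨?_, ?_⟩))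
          (Subgroup.mem_sup_left (Subgroup.subset_closure (Set.mem_singleton _)))
        · rw [memB, Subgroup.coe_mul, Subgroup.coe_inv, hn0]
          exact hHB h
        · rw [memN, Subgroup.coe_mul, Subgroup.coe_inv, hn0]
          exact hHN h
  · -- mul_mem_union
    intro s hs n hn b hb
    rw [Set.mem_singleton_iff] at hs
    rw [hs]
    have hnN := (memN n).1 hn
    have hbB := (memB b).1 hb
    rcases R.mono_cases (n : GL D.Idx F) (Subgroup.mem_inf.2 ⟨hnN, n.2⟩) with h | h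
    · left
      rw [DoubleCoset.mem_doubleCoset]
      have hnB : n ∈ (D.borelSubgroup F ⊓ R.G1).subgroupOf R.G1 := (memB n).2 (hHB h)
      refine ⟨1, Subgroup.one_mem _, n⁻¹ * b * n,
        Subgroup.mul_mem _ (Subgroup.mul_mem _ (Subgroup.inv_mem _ hnB) hb) hnB, ?_⟩
      group
    · obtain ⟨g, hgdef⟩ : ∃ g : ↥R.G1, g = n0 * b * n := ⟨_, rfl⟩
      rw [← hgdef]
      rcases R.decomp (g : GL D.Idx F) g.2 with hg | ⟨b', hb', u, hu, e⟩
      · left
        rw [DoubleCoset.mem_doubleCoset]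
        obtain ⟨sn, hsndef⟩ : ∃ x : ↥R.G1, x = n0 * n := ⟨_, rfl⟩
        have hsnval : (sn : GL D.Idx F) = R.n₀ * (n : GL D.Idx F) := by
          rw [hsndef, Subgroup.coe_mul, hn0]
        have hsn : (sn : GL D.Idx F) ∈ D.diagonalSubgroup F := by
          rcases R.mono_cases (sn : GL D.Idx F)
            (Subgroup.mem_inf.2 ⟨by rw [hsnval]; exact Subgroup.mul_mem _ R.hn₀N hnN, sn.2⟩)
            with h' | h'
          · exact h'
          · exfalso
            apply R.n0_not_diag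
            rw [hsnval] at h'
            have e : R.n₀ = (R.n₀ * (n : GL D.Idx F) * R.n₀⁻¹) * ((n : GL D.Idx F) * R.n₀⁻¹)⁻¹ := by
              group
            rw [e]
            exact Subgroup.mul_mem _ h' (Subgroup.inv_mem _ h)
        have hsnB : sn ∈ (D.borelSubgroup F ⊓ R.G1).subgroupOf R.G1 := (memB _).2 (hHB hsn)
        have hgB : g ∈ (D.borelSubgroup F ⊓ R.G1).subgroupOf R.G1 :=
          (memB _).2 (Subgroup.mem_inf.1 hg).1
        rw [← hsndef]
        refine ⟨g * sn⁻¹, Subgroup.mul_mem _ hgB (Subgroup.inv_mem _ hsnB), 1,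
          Subgroup.one_mem _, ?_⟩
        group
      · right
        rw [DoubleCoset.mem_doubleCoset]
        obtain ⟨b1, hb1⟩ := mkG b' (Subgroup.mem_inf.1 hb').2
        obtain ⟨u1, hu1⟩ := mkG u (Subgroup.mem_inf.1 hu).2
        have hh : n * n0⁻¹ ∈ (D.borelSubgroup F ⊓ R.G1).subgroupOf R.G1 := by
          rw [memB, Subgroup.coe_mul, Subgroup.coe_inv, hn0]
          exact hHB h
        refine ⟨b1 * (n * n0⁻¹)⁻¹,
          Subgroup.mul_mem _ ((memB _).2 (by rw [hb1]; exact (Subgroup.mem_inf.1 hb').1))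
            (Subgroup.inv_mem _ hh),
          u1, (memB _).2 (by rw [hu1]; exact hUB (Subgroup.mem_inf.1 hu).1), ?_⟩
        have e2 : g = b1 * n0 * u1 := by
          apply Subtype.ext
          rw [Subgroup.coe_mul, Subgroup.coe_mul, hb1, hu1, hn0]
          exact e
        rw [e2]
        group
  · -- conj_ne
    intro s hs heq
    rw [Set.mem_singleton_iff] at hs
    rw [hs] at heq
    obtain ⟨u, hu, hu1⟩ := hU1
    obtain ⟨u', hu'⟩ := mkG u (Subgroup.mem_inf.1 hu).2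
    have huB : u' ∈ ((D.borelSubgroup F ⊓ R.G1).subgroupOf R.G1 : Set ↥R.G1) :=
      (memB _).2 (by rw [hu']; exact hUB (Subgroup.mem_inf.1 hu).1)
    have h1 : n0 * u' * n0 ∈ ((D.borelSubgroup F ⊓ R.G1).subgroupOf R.G1 : Set ↥R.G1) := by
      rw [← heq]
      exact ⟨u', huB, rfl⟩
    have h2 : R.n₀ * u * R.n₀ ∈ D.borelSubgroup F := by
      have := (memB _).1 h1
      rwa [Subgroup.coe_mul, Subgroup.coe_mul, hn0, hu'] at this
    have h3 : R.n₀ * u * R.n₀⁻¹ ∈ D.borelSubgroup F := by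
      have e : R.n₀ * u * R.n₀⁻¹ = (R.n₀ * u * R.n₀) * (R.n₀ * R.n₀)⁻¹ := by group
      rw [e]
      exact Subgroup.mul_mem _ h2 (Subgroup.inv_mem _ (hHB R.n0_sq))
    have h4 : R.n₀ * u * R.n₀⁻¹ ∈ D.negUnipotent F :=
      R.hconj (Subgroup.mem_map.2 ⟨u, (Subgroup.mem_inf.1 hu).1, rfl⟩)
    have h5 : R.n₀ * u * R.n₀⁻¹ ∈ D.borelSubgroup F ⊓ D.negUnipotent F :=
      Subgroup.mem_inf.2 ⟨h3, h4⟩
    rw [borel_inf_negUnipotent D hD, Subgroup.mem_bot] at h5
    apply hu1
    have e : u = R.n₀⁻¹ * (R.n₀ * u * R.n₀⁻¹) * R.n₀ := by group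
    rw [e, h5]
    group

end Rk1

end Cfsg.Agent.Lib.Helper24
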