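import Mathlib
import Cfsg.Agent.Lib.Helper24.RkSigE
import Cfsg.Agent.Lib.Helper24.ReeRk
import Cfsg.Agent.Lib.Helper24.ReeP

/-!
# Twisted groups of rank one: simplicity

A perfect twisted group of rank one whose Borel subgroup has trivial core is simple; the small
Ree groups `²G₂(3^(2m+1))`, `m ≥ 1`.
-/

set_option autoImplicit false
set_option maxHeartbeats 400000

namespace Cfsg.Agent.Lib.Helper24

open Cfsg.Lie Matrix
open Cfsg.Agent.Lib.Helper27

namespace Rk1

variable {F : Type*} [Field F] {D : ChevalleyDatum} {hD : D ∈ chevList} (R : Rk1 F D hD)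

/-- A perfect twisted group of rank one in which `B¹` has trivial core is simple. -/
theorem isSimpleGroup_of (hperf : commutator ↥R.G1 = ⊤)
    (hcore : ((D.borelSubgroup F ⊓ R.G1).subgroupOf R.G1).normalCore = ⊥)
    (hnt : Nontrivial ↥R.G1) : IsSimpleGroup ↥R.G1 := by
  haveI hBs : Group.IsSolvable ↥(D.borelSubgroup F) := borel_isSolvable D hD
  have hB's : Group.IsSolvable ↥((D.borelSubgroup F ⊓ R.G1).subgroupOf R.G1) := by
    let f : ↥((D.borelSubgroup F ⊓ R.G1).subgroupOf R.G1) →* ↥(D.borelSubgroup F) :=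
      { toFun := fun x => ⟨((x : ↥R.G1) : GL D.Idx F), (Subgroup.mem_subgroupOf.1 x.2).1⟩
        map_one' := rfl
        map_mul' := fun x y => rfl }
    exact Group.isSolvable_of_isSolvable_injective (f := f) (fun x y hxy => by
      apply Subtype.ext
      apply Subtype.ext
      exact congrArg (fun z : ↥(D.borelSubgroup F) => (z : GL D.Idx F)) hxy)
  obtain ⟨n0, hn0⟩ : ∃ x : ↥R.G1, (x : GL D.Idx F) = R.n₀ := ⟨⟨R.n₀, R.hn₀G⟩, rfl⟩
  have hdec : ∀ g : ↥R.G1, g ∈ (D.borelSubgroup F ⊓ R.G1).subgroupOf R.G1 ∨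
      ∃ b ∈ (D.borelSubgroup F ⊓ R.G1).subgroupOf R.G1,
        ∃ u ∈ (D.borelSubgroup F ⊓ R.G1).subgroupOf R.G1, g = b * n0 * u := by
    intro g
    rcases R.decomp g g.2 with h | ⟨b, hb, u, hu, e⟩
    · left
      exact Subgroup.mem_subgroupOf.2 h
    · right
      refine ⟨⟨b, hb.2⟩, Subgroup.mem_subgroupOf.2 hb, ⟨u, hu.2⟩,
        Subgroup.mem_subgroupOf.2 (Subgroup.mem_inf.2
          ⟨(le_sup_left : D.posUnipotent F ≤ D.borelSubgroup F) hu.1, hu.2⟩), ?_⟩
      apply Subtype.ext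
      rw [Subgroup.coe_mul, Subgroup.coe_mul, hn0]
      exact e
  haveI := hnt
  refine ⟨fun N hN => ?_⟩
  by_cases hNB : N ≤ (D.borelSubgroup F ⊓ R.G1).subgroupOf R.G1
  · left
    rw [eq_bot_iff, ← hcore]
    exact Subgroup.normal_le_normalCore.2 hNB
  · right
    obtain ⟨x, hxN, hxB⟩ := SetLike.not_le_iff_exists.1 hNB
    rcases hdec x with h | ⟨b, hb, u, hu, e⟩
    · exact absurd h hxB
    · have hn0P : n0 ∈ N ⊔ (D.borelSubgroup F ⊓ R.G1).subgroupOf R.G1 := by
        have e' : n0 = b⁻¹ * x * u⁻¹ := by rw [e]; group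
        rw [e']
        exact Subgroup.mul_mem _ (Subgroup.mul_mem _
          (Subgroup.mem_sup_right (Subgroup.inv_mem _ hb)) (Subgroup.mem_sup_left hxN))
          (Subgroup.mem_sup_right (Subgroup.inv_mem _ hu))
      have htop : N ⊔ (D.borelSubgroup F ⊓ R.G1).subgroupOf R.G1 = ⊤ := by
        rw [eq_top_iff]
        intro g _
        rcases hdec g with h | ⟨b, hb, u, hu, e⟩
        · exact Subgroup.mem_sup_right h
        · rw [e]
          exact Subgroup.mul_mem _ (Subgroup.mul_mem _ (Subgroup.mem_sup_right hb) hn0P)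
            (Subgroup.mem_sup_right hu)
      by_contra hNtop
      haveI : Nontrivial (↥R.G1 ⧸ N) :=
        not_subsingleton_iff_nontrivial.1
          (fun hs => hNtop (QuotientGroup.subgroup_eq_top_of_subsingleton N hs))
      have hsurj : Function.Surjective ((QuotientGroup.mk' N).comp
          ((D.borelSubgroup F ⊓ R.G1).subgroupOf R.G1).subtype) := by
        intro q
        obtain ⟨g, rfl⟩ := QuotientGroup.mk'_surjective N q
        have hg : g ∈ (↑(N ⊔ (D.borelSubgroup F ⊓ R.G1).subgroupOf R.G1) : Set ↥R.G1) := by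
          rw [htop]
          exact Subgroup.mem_top g
        rw [Subgroup.normal_mul] at hg
        obtain ⟨n, hn, b, hb, rfl⟩ := Set.mem_mul.1 hg
        refine ⟨⟨b, hb⟩, ?_⟩
        show (QuotientGroup.mk' N) b = (QuotientGroup.mk' N) (n * b)
        have h1 : (QuotientGroup.mk' N) n = 1 := (QuotientGroup.eq_one_iff n).2 hn
        rw [map_mul, h1, one_mul]
      haveI : Group.IsSolvable (↥R.G1 ⧸ N) := Group.isSolvable_of_surjective hsurj
      have hlt := Group.IsSolvable.commutator_lt_top_of_nontrivial (↥R.G1 ⧸ N)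
      have hq : commutator (↥R.G1 ⧸ N) = ⊤ := by
        rw [commutator_def, ← Subgroup.map_top_of_surjective (QuotientGroup.mk' N)
          (QuotientGroup.mk'_surjective N), ← Subgroup.map_commutator, ← commutator_def, hperf]
      exact absurd hq hlt.ne

end Rk1

namespace ReeP

variable {K : Type*} [Field K]

/-- The small Ree groups `²G₂(3^(2m+1))`, `m ≥ 1`, are simple and not commutative. -/
theorem twistedG2_simple [Fintype K] {m : ℕ} (hm : 1 ≤ m)
    (hK : Fintype.card K = 3 ^ (2 * m + 1)) :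
    IsSimpleGroup ↥(twistedG2 K (3 ^ m)) ∧ ¬ IsMulCommutative ↥(twistedG2 K (3 ^ m)) := by
  have : CharP K 3 := Ree.charP_three (by omega) hK
  obtain ⟨σ, hσ⟩ := Ree.exists_sig m hK
  obtain ⟨hF, hadd, hsub, hodd⟩ := Ree.field_facts m hK
  have hperf : commutator ↥(twistedG2 K (3 ^ m)) = ⊤ := twistedG2_perfect hK hm
  have hnt : Nontrivial ↥(twistedG2 K (3 ^ m)) := by
    refine ⟨⟨⟨Ree.n0 K, Ree.n0_mem _ (pow_ne_zero _ (by norm_num))⟩, 1, ?_⟩⟩
    intro h
    have h1 : Ree.n0 K = 1 := congrArg Subtype.val h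
    refine (ReeRk.reeRk hσ hF hadd hsub hodd).n0_not_borel ?_
    rw [ReeRk.reeRk_n0, h1]
    exact Subgroup.one_mem _
  constructor
  · exact (ReeRk.reeRk hσ hF hadd hsub hodd).isSimpleGroup_of hperf
      (Ree.twistedG2_core (3 ^ m) (pow_ne_zero _ (by norm_num))) hnt
  · intro hcomm
    have hc : commutator ↥(twistedG2 K (3 ^ m)) = ⊥ := by
      rw [commutator_eq_bot_iff_center_eq_top]
      exact Subgroup.center_eq_top
    rw [hc] at hperf
    obtain ⟨a, b, hab⟩ := exists_pair_ne ↥(twistedG2 K (3 ^ m))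
    have ha : a ∈ (⊥ : Subgroup ↥(twistedG2 K (3 ^ m))) := by
      rw [hperf]; exact Subgroup.mem_top a
    have hb : b ∈ (⊥ : Subgroup ↥(twistedG2 K (3 ^ m))) := by
      rw [hperf]; exact Subgroup.mem_top b
    rw [Subgroup.mem_bot] at ha hb
    exact hab (ha.trans hb.symm)

end ReeP

end Cfsg.Agent.Lib.Helper24
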