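import Mathlib
import Cfsg.Agent.Lib.Helper24.RkSigF
import Cfsg.Agent.S1069

/-!
# Twisted groups of rank one: the conjugates of `U¹` meet trivially

If `U¹` is a Sylow `p`-subgroup of a twisted group of rank one, distinct Sylow `p`-subgroups meet
trivially; the small Ree groups.
-/

set_option autoImplicit false
set_option maxHeartbeats 400000

namespace Cfsg.Agent.Lib.Helper24

open Cfsg.Lie Matrix
open Cfsg.Agent.Lib.Helper27

namespace Rk1

variable {F : Type*} [Field F] {D : ChevalleyDatum} {hD : D ∈ chevList} (R : Rk1 F D hD)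

include R in
/-- `B` normalises `U`. -/
theorem borel_conj_pos (b u : GL D.Idx F) (hb : b ∈ D.borelSubgroup F)
    (hu : u ∈ D.posUnipotent F) : b * u * b⁻¹ ∈ D.posUnipotent F := by
  have hHU : D.diagonalSubgroup F ≤ Subgroup.normalizer (D.posUnipotent F : Set (GL D.Idx F)) :=
    diagonal_le_normalizer_rootGen D hD D.IsPosRoot (fun r hr => hr.1)
  have hUU : D.posUnipotent F ≤ Subgroup.normalizer (D.posUnipotent F : Set (GL D.Idx F)) :=
    Subgroup.le_normalizer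
  have hB : D.borelSubgroup F ≤ Subgroup.normalizer (D.posUnipotent F : Set (GL D.Idx F)) :=
    sup_le hUU hHU
  exact ((Subgroup.mem_set_normalizer_iff.1 (hB hb)) u).1 hu

/-- A conjugate of an element of `U¹` by an element of `G¹` outside `B` is not in `U`, unless
trivial. -/
theorem ti_aux (w u u' : GL D.Idx F) (hw : w ∈ R.G1) (hwB : w ∉ D.borelSubgroup F)
    (hu : u ∈ D.posUnipotent F) (hu' : u' ∈ D.posUnipotent F ⊓ R.G1) (e : u = w * u' * w⁻¹) :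
    u = 1 := by
  rcases R.decomp w hw with h | ⟨b, hb, u₁, hu₁, ew⟩
  · exact absurd h.1 hwB
  · have e1 : b⁻¹ * u * b = R.n₀ * (u₁ * u' * u₁⁻¹) * R.n₀⁻¹ := by rw [e, ew]; group
    have h1 : b⁻¹ * u * b ∈ D.posUnipotent F := by
      have := R.borel_conj_pos b⁻¹ u (Subgroup.inv_mem _ hb.1) hu
      rwa [inv_inv] at this
    have h2 : R.n₀ * (u₁ * u' * u₁⁻¹) * R.n₀⁻¹ ∈ D.negUnipotent F :=
      R.hconj (Subgroup.mem_map.2 ⟨_, Subgroup.mul_mem _ (Subgroup.mul_mem _ hu₁.1 hu'.1)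
        (Subgroup.inv_mem _ hu₁.1), rfl⟩)
    have h3 : b⁻¹ * u * b ∈ D.borelSubgroup F ⊓ D.negUnipotent F :=
      Subgroup.mem_inf.2 ⟨(le_sup_left : D.posUnipotent F ≤ D.borelSubgroup F) h1, by
        rw [e1]; exact h2⟩
    rw [borel_inf_negUnipotent D hD, Subgroup.mem_bot] at h3
    have e2 : u = b * (b⁻¹ * u * b) * b⁻¹ := by group
    rw [e2, h3]
    group

/-- If `U¹` is a Sylow `p`-subgroup of `G¹`, distinct Sylow `p`-subgroups meet trivially. -/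
theorem sylow_ti [Finite ↥R.G1] (p : ℕ) [Fact p.Prime]
    (hS : ∃ S : Sylow p ↥R.G1,
      (S : Subgroup ↥R.G1) = (D.posUnipotent F ⊓ R.G1).subgroupOf R.G1)
    (P Q : Sylow p ↥R.G1) (hPQ : P ≠ Q) : (P : Subgroup ↥R.G1) ⊓ (Q : Subgroup ↥R.G1) = ⊥ := by
  obtain ⟨S, hS⟩ := hS
  obtain ⟨g, rfl⟩ := MulAction.exists_smul_eq ↥R.G1 S P
  obtain ⟨g', rfl⟩ := MulAction.exists_smul_eq ↥R.G1 S Q
  rw [eq_bot_iff]
  intro x hx
  rw [Subgroup.mem_bot]
  obtain ⟨hxP, hxQ⟩ := Subgroup.mem_inf.1 hx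
  rw [Sylow.coe_subgroup_smul, Subgroup.mem_pointwise_smul_iff_inv_smul_mem, MulAut.smul_def,
    MulAut.conj_inv_apply, hS, Subgroup.mem_subgroupOf] at hxP hxQ
  by_cases hwB : ((g⁻¹ * g' : ↥R.G1) : GL D.Idx F) ∈ D.borelSubgroup F
  · exfalso
    apply hPQ
    have hn : (g⁻¹ * g') • S = S := by
      rw [Sylow.smul_eq_iff_mem_normalizer, Subgroup.mem_set_normalizer_iff]
      intro h
      have hm : ∀ y : ↥R.G1, y ∈ (S : Set ↥R.G1) ↔
          (y : GL D.Idx F) ∈ D.posUnipotent F ⊓ R.G1 := by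
        intro y
        rw [← Subgroup.mem_subgroupOf, ← hS]
        rfl
      rw [hm, hm]
      constructor
      · intro hh
        exact Subgroup.mem_inf.2 ⟨R.borel_conj_pos _ _ hwB hh.1,
          ((g⁻¹ * g') * h * (g⁻¹ * g')⁻¹).2⟩
      · intro hh
        have h5 := R.borel_conj_pos _ _ (Subgroup.inv_mem _ hwB) hh.1
        have e5 : ((g⁻¹ * g' : ↥R.G1) : GL D.Idx F)⁻¹ *
            (((g⁻¹ * g') * h * (g⁻¹ * g')⁻¹ : ↥R.G1) : GL D.Idx F) *
            (((g⁻¹ * g' : ↥R.G1) : GL D.Idx F)⁻¹)⁻¹ = (h : GL D.Idx F) := by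
          simp only [Subgroup.coe_mul, Subgroup.coe_inv]
          group
        rw [e5] at h5
        exact Subgroup.mem_inf.2 ⟨h5, h.2⟩
    have eg : g' = g * (g⁻¹ * g') := by group
    rw [eg, mul_smul, hn]
  · have h1 := R.ti_aux ((g⁻¹ * g' : ↥R.G1) : GL D.Idx F) ((g⁻¹ * x * g : ↥R.G1) : GL D.Idx F)
      ((g'⁻¹ * x * g' : ↥R.G1) : GL D.Idx F) (g⁻¹ * g').2 hwB hxP.1 hxQ (by
        simp only [Subgroup.coe_mul, Subgroup.coe_inv]
        group)
    have h2 : g⁻¹ * x * g = 1 := Subtype.ext h1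
    have e3 : x = g * (g⁻¹ * x * g) * g⁻¹ := by group
    rw [e3, h2]
    group

end Rk1

namespace ReeP

variable {K : Type*} [Field K]

/-- Distinct Sylow 3-subgroups of `²G₂(3^(2m+1))` meet trivially. -/
theorem twistedG2_sylow_ti [Fintype K] {m : ℕ} (hK : Fintype.card K = 3 ^ (2 * m + 1))
    (P Q : Sylow 3 ↥(twistedG2 K (3 ^ m))) (hPQ : P ≠ Q) :
    (P : Subgroup ↥(twistedG2 K (3 ^ m))) ⊓ (Q : Subgroup ↥(twistedG2 K (3 ^ m))) = ⊥ := by
  classical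
  have : CharP K 3 := Ree.charP_three (by omega) hK
  obtain ⟨σ, hσ⟩ := Ree.exists_sig m hK
  obtain ⟨hF, hadd, hsub, hodd⟩ := Ree.field_facts m hK
  have hU := Ree.U1_card hσ hF hadd hodd hsub
  have hG := Cfsg.Agent.S1069.result hK
  have hq3 : (3 : ℕ) ^ (2 * m + 1) = 3 * 3 ^ (2 * m) := by rw [pow_succ]; ring
  have hfac : (Nat.card ↥(twistedG2 K (3 ^ m))).factorization 3 = (2 * m + 1) * 3 := by
    rw [hG]
    have hpos : 0 < 3 ^ (2 * m) := by positivity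
    have h1 : ((3 : ℕ) ^ (2 * m + 1)) ^ 3 ≠ 0 := by positivity
    have h2 : (3 : ℕ) ^ (2 * m + 1) - 1 ≠ 0 := by omega
    have h3 : ((3 : ℕ) ^ (2 * m + 1)) ^ 3 + 1 ≠ 0 := by omega
    have d2 : ¬ 3 ∣ (3 : ℕ) ^ (2 * m + 1) - 1 := by omega
    have d3 : ¬ 3 ∣ ((3 : ℕ) ^ (2 * m + 1)) ^ 3 + 1 := by
      intro hd
      have hd' : 3 ∣ ((3 : ℕ) ^ (2 * m + 1)) ^ 3 :=
        dvd_pow (Dvd.intro _ hq3.symm) (by norm_num)
      have := (Nat.dvd_add_right hd').1 hd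
      omega
    rw [Nat.factorization_mul (mul_ne_zero h1 h2) h3, Nat.factorization_mul h1 h2,
      Finsupp.add_apply, Finsupp.add_apply, Nat.factorization_eq_zero_of_not_dvd d2,
      Nat.factorization_eq_zero_of_not_dvd d3, ← pow_mul,
      Nat.Prime.factorization_pow Nat.prime_three]
    simp
  have : Fact (Nat.Prime 3) := ⟨Nat.prime_three⟩
  have hcard : Nat.card ↥((chevG2.posUnipotent K ⊓ twistedG2 K (3 ^ m)).subgroupOf
      (twistedG2 K (3 ^ m))) = 3 ^ (Nat.card ↥(twistedG2 K (3 ^ m))).factorization 3 := by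
    rw [hfac, Nat.card_congr (Subgroup.subgroupOfEquivOfLe
      (inf_le_right : chevG2.posUnipotent K ⊓ twistedG2 K (3 ^ m) ≤ twistedG2 K (3 ^ m))).toEquiv,
      hU, hK, ← pow_mul]
  exact (ReeRk.reeRk hσ hF hadd hsub hodd).sylow_ti 3
    ⟨Sylow.ofCard _ hcard, Sylow.coe_ofCard _ hcard⟩ P Q hPQ

end ReeP

end Cfsg.Agent.Lib.Helper24
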